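import Mathlib

/-!
# The class equation argument

A finite group in which the non-identity elements split into classes with bounded centralisers and
into pieces attached to subgroups of bounded index in their stabilisers is bounded, or one of those
stabilisers is everything.
-/

set_option autoImplicit false

namespace Cfsg.Agent.Lib.JordanModular55

theorem exists_bound_eq_max (k : ℕ) : ∀ L : ℕ, 0 < L → ∃ Φ : ℕ, ∀ (N : ℕ) (a : ℤ) (s : Multiset ℕ),
    0 < N → s.card ≤ k → (∀ v ∈ s, 0 < v ∧ v ≤ N) →
    ((1 : ℚ) / N) = (a : ℚ) / L + (s.map fun v : ℕ => (1 : ℚ) / v).sum →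
    N ≤ Φ ∨ N ∈ s := by
  induction k with
  | zero =>
    intro L hL
    refine ⟨L, fun N a s hN hs _ h => Or.inl ?_⟩
    rw [Multiset.card_eq_zero.1 (Nat.le_zero.1 hs)] at h
    simp only [Multiset.map_zero, Multiset.sum_zero, add_zero] at h
    have hN' : (0 : ℚ) < N := by exact_mod_cast hN
    have hL' : (0 : ℚ) < L := by exact_mod_cast hL
    have ha : (0 : ℚ) < a := by
      by_contra hc
      have : (a : ℚ) / L ≤ 0 := div_nonpos_of_nonpos_of_nonneg (not_lt.1 hc) hL'.le
      have := one_div_pos.2 hN'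
      linarith
    have ha1 : (1 : ℚ) ≤ a := by exact_mod_cast (show (0 : ℤ) < a by exact_mod_cast ha)
    rw [div_eq_div_iff hN'.ne' hL'.ne'] at h
    have : (N : ℚ) ≤ L := by nlinarith
    exact_mod_cast this
  | succ k ih =>
    intro L hL
    have key : ∀ v : ℕ, ∃ Φ : ℕ, 0 < v → ∀ (N : ℕ) (a : ℤ) (s : Multiset ℕ),
        0 < N → s.card ≤ k → (∀ v ∈ s, 0 < v ∧ v ≤ N) →
        ((1 : ℚ) / N) = (a : ℚ) / (L * v : ℕ) + (s.map fun v : ℕ => (1 : ℚ) / v).sum →
        N ≤ Φ ∨ N ∈ s := fun v => by
      rcases Nat.eq_zero_or_pos v with rfl | hv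
      · exact ⟨0, fun h => absurd h (lt_irrefl 0)⟩
      · obtain ⟨Φ, hΦ⟩ := ih (L * v) (Nat.mul_pos hL hv)
        exact ⟨Φ, fun _ => hΦ⟩
    choose P hP using key
    refine ⟨max L ((Finset.range ((k + 1) * L + 1)).sup P), fun N a s hN hs hv h => ?_⟩
    have hN' : (0 : ℚ) < N := by exact_mod_cast hN
    have hL' : (0 : ℚ) < L := by exact_mod_cast hL
    rcases lt_trichotomy a 0 with ha | rfl | ha
    · -- some term is small
      have hsum : (1 : ℚ) / L ≤ (s.map fun v : ℕ => (1 : ℚ) / v).sum := by
        have : (a : ℚ) / L ≤ -1 / L := div_le_div_of_nonneg_right (by exact_mod_cast (show a ≤ -1 by omega)) hL'.le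
        rw [neg_div] at this
        have := one_div_pos.2 hN'
        linarith
      have hex : ∃ v ∈ s, v ≤ (k + 1) * L := by
        by_contra hc
        simp only [not_exists, not_and, not_le] at hc
        have hb := Multiset.sum_le_card_nsmul (s.map fun v : ℕ => (1 : ℚ) / v)
          ((1 : ℚ) / ((k + 1) * L + 1 : ℕ)) (by
            intro x hx
            obtain ⟨v, hvs, rfl⟩ := Multiset.mem_map.1 hx
            exact one_div_le_one_div_of_le (by positivity) (by exact_mod_cast (hc v hvs)))
        rw [Multiset.card_map, nsmul_eq_mul] at hb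
        have hb2 : ((s.card : ℚ)) * (1 / ((k + 1) * L + 1 : ℕ)) ≤ (k + 1) * (1 / ((k + 1) * L + 1 : ℕ)) :=
          mul_le_mul_of_nonneg_right (by exact_mod_cast hs) (by positivity)
        have hle := (hsum.trans hb).trans hb2
        push_cast at hle
        rw [mul_one_div, div_le_div_iff₀ hL' (by positivity)] at hle
        linarith
      obtain ⟨v, hvs, hvb⟩ := hex
      obtain ⟨t, rfl⟩ := Multiset.exists_cons_of_mem hvs
      have hv0 : 0 < v := (hv v hvs).1
      simp only [Multiset.card_cons, Nat.add_le_add_iff_right] at hs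
      rcases hP v hv0 N (a * v + L) t hN hs (fun w hw => hv w (Multiset.mem_cons_of_mem hw)) (by
        rw [h, Multiset.map_cons, Multiset.sum_cons]
        have hv' : (v : ℚ) ≠ 0 := by exact_mod_cast hv0.ne'
        have := hL'.ne'
        push_cast
        field_simp
        ring) with h1 | h1
      · exact Or.inl (h1.trans ((Finset.le_sup (f := P) (Finset.mem_range.2 (Nat.lt_succ_of_le hvb))).trans
          (le_max_right _ _)))
      · exact Or.inr (Multiset.mem_cons_of_mem h1)
    · -- the terms add up to `1 / N`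
      simp only [Int.cast_zero, zero_div, zero_add] at h
      refine Or.inr ?_
      rcases Multiset.empty_or_exists_mem s with rfl | ⟨v, hvs⟩
      · simp only [Multiset.map_zero, Multiset.sum_zero] at h
        exact absurd h (one_div_pos.2 hN').ne'
      · obtain ⟨t, rfl⟩ := Multiset.exists_cons_of_mem hvs
        rw [Multiset.map_cons, Multiset.sum_cons] at h
        have hnn : 0 ≤ (t.map fun v : ℕ => (1 : ℚ) / v).sum := Multiset.sum_nonneg fun x hx => by
          obtain ⟨w, -, rfl⟩ := Multiset.mem_map.1 hx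
          positivity
        have hle : (1 : ℚ) / v ≤ 1 / N := by linarith
        have hv0 : (0 : ℚ) < v := by exact_mod_cast (hv v hvs).1
        rw [one_div_le_one_div hv0 hN'] at hle
        have hNv : N = v := le_antisymm (by exact_mod_cast hle) (hv v hvs).2
        exact hNv ▸ hvs
    · refine Or.inl (le_trans ?_ (le_max_left _ _))
      have hnn : 0 ≤ (s.map fun v : ℕ => (1 : ℚ) / v).sum := Multiset.sum_nonneg fun x hx => by
        obtain ⟨w, -, rfl⟩ := Multiset.mem_map.1 hx
        positivity
      have hle : (1 : ℚ) / L ≤ 1 / N := by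
        have : (1 : ℚ) / L ≤ (a : ℚ) / L :=
          div_le_div_of_nonneg_right (by exact_mod_cast ha) hL'.le
        linarith
      rw [one_div_le_one_div hL' hN'] at hle
      exact_mod_cast hle

open MulAction in
/-- The class equation: bounded centralisers outside the pieces and bounded index inside force a
bounded group, unless a piece is stabilised by everything. -/
theorem exists_bound_partition (c D : ℕ) : ∃ Φ : ℕ, ∀ (Q : Type*) [Group Q] [Finite Q]
    (ι : Type*) [Finite ι] [MulAction Q ι] (X : ι → Set Q) (τ : ι → ℕ),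
    (∀ i, (1 : Q) ∉ X i) →
    (∀ i (g : Q) (x : Q), x ∈ X i → g * x * g⁻¹ ∈ X (g • i)) →
    (∀ i j x, x ∈ X i → x ∈ X j → i = j) →
    (∀ q : Q, q ≠ 1 → (∀ i, q ∉ X i) → Nat.card (Subgroup.centralizer ({q} : Set Q)) ≤ c) →
    (∀ i : ι, 2 ≤ τ i ∧ τ i ∣ Nat.card (X i) + 1 ∧ τ i ∣ Nat.card (stabilizer Q i) ∧
      Nat.card (stabilizer Q i) ≤ D * τ i) →
    Nat.card Q ≤ Φ ∨ ∃ i : ι, stabilizer Q i = ⊤ := by
  set L := (c + D + 1).factorial with hLdef
  obtain ⟨Φ, hΦ⟩ := exists_bound_eq_max (2 * D) L (Nat.factorial_pos _)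
  refine ⟨Φ, fun Q _ _ ι _ _ X τ h1 hconj hdisj hbad hτ => ?_⟩
  classical
  haveI := Fintype.ofFinite Q
  haveI := Fintype.ofFinite ι
  set B : Finset (ConjClasses Q) :=
    Finset.univ.filter fun C => ∀ x ∈ C.carrier, x ≠ 1 ∧ ∀ i, x ∉ X i with hB
  haveI : Fintype (Quotient (orbitRel Q ι)) := Fintype.ofFinite _
  set rep : Quotient (orbitRel Q ι) → ι := Quotient.out
  set N := Nat.card Q with hN
  have hNpos : 0 < N := Nat.card_pos
  have hcardX : ∀ (g : Q) i, Nat.card (X (g • i)) = Nat.card (X i) := by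
    intro g i
    refine (Nat.card_congr ?_).symm
    exact
      { toFun := fun x => ⟨g * x.1 * g⁻¹, hconj i g x.1 x.2⟩
        invFun := fun y => ⟨g⁻¹ * y.1 * g, by
          have := hconj _ g⁻¹ y.1 y.2
          rwa [inv_smul_smul, inv_inv] at this⟩
        left_inv := fun x => Subtype.ext (by group)
        right_inv := fun y => Subtype.ext (by group) }
  -- the partition
  have hpart : N = 1 + ∑ C ∈ B, Nat.card C.carrier + ∑ i, Nat.card (X i) := by
    set U : Finset Q := Finset.univ.filter fun x => x ≠ 1 ∧ ∀ i, x ∉ X i with hU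
    have hUsum : U.card = ∑ C ∈ B, Nat.card C.carrier := by
      rw [Finset.card_eq_sum_card_fiberwise (f := ConjClasses.mk) (t := B) ?_]
      · refine Finset.sum_congr rfl fun C hC => ?_
        rw [Nat.card_eq_fintype_card, ← Set.toFinset_card]
        congr 1
        ext x
        simp only [hU, Finset.mem_filter, Finset.mem_univ, true_and, Set.mem_toFinset,
          ConjClasses.mem_carrier_iff_mk_eq]
        refine ⟨fun h => h.2, fun h => ⟨?_, h⟩⟩
        exact (Finset.mem_filter.1 hC).2 x (ConjClasses.mem_carrier_iff_mk_eq.2 h)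
      · intro x hx
        simp only [hU, Finset.coe_filter, Finset.mem_univ, true_and, Set.mem_ofPred_eq] at hx
        simp only [hB, Finset.coe_filter, Finset.mem_univ, true_and, Set.mem_ofPred_eq]
        intro y hy
        obtain ⟨g, rfl⟩ := isConj_iff.1 (ConjClasses.mk_eq_mk_iff_isConj.1
          (ConjClasses.mem_carrier_iff_mk_eq.1 hy).symm)
        refine ⟨fun h => hx.1 (conj_eq_one_iff.1 h), fun i hi => ?_⟩
        have := hconj i g⁻¹ _ hi
        exact hx.2 _ (by simpa [mul_assoc] using this)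
    have hXsum : (Finset.univ.filter fun x : Q => ∃ i, x ∈ X i).card = ∑ i, Nat.card (X i) := by
      have : (Finset.univ.filter fun x : Q => ∃ i, x ∈ X i) =
          Finset.univ.biUnion fun i => (X i).toFinset := by
        ext x; simp
      rw [this, Finset.card_biUnion ?_]
      · exact Finset.sum_congr rfl fun i _ => by rw [Set.toFinset_card, Nat.card_eq_fintype_card]
      · intro i _ j _ hij
        rw [Function.onFun, Finset.disjoint_left]
        intro x hxi hxj
        exact hij (hdisj i j x (Set.mem_toFinset.1 hxi) (Set.mem_toFinset.1 hxj))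
    rw [← hUsum, ← hXsum, add_comm 1, hN, Nat.card_eq_fintype_card, ← Finset.card_univ,
      ← Finset.card_singleton (1 : Q),
      ← Finset.card_union_of_disjoint, ← Finset.card_union_of_disjoint]
    · congr 1
      ext x
      simp only [hU, Finset.mem_univ, Finset.mem_union, Finset.mem_filter, Finset.mem_singleton,
        true_and, true_iff]
      by_cases hx : x = 1
      · exact Or.inl (Or.inr hx)
      · by_cases hx' : ∃ i, x ∈ X i
        · exact Or.inr hx'
        · exact Or.inl (Or.inl ⟨hx, fun i hi => hx' ⟨i, hi⟩⟩)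
    · rw [Finset.disjoint_left]
      intro x hx hx'
      simp only [hU, Finset.mem_union, Finset.mem_filter, Finset.mem_univ, true_and,
        Finset.mem_singleton] at hx hx'
      obtain ⟨i, hi⟩ := hx'
      rcases hx with hx | rfl
      · exact hx.2 i hi
      · exact h1 i hi
    · rw [Finset.disjoint_left]
      intro x hx hx'
      simp only [hU, Finset.mem_filter, Finset.mem_singleton] at hx hx'
      exact hx.2.1 hx'
  have horb : ∑ i, Nat.card (X i) =
      ∑ o : Quotient (orbitRel Q ι), Nat.card (orbit Q (rep o)) * Nat.card (X (rep o)) := by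
    rw [← (selfEquivSigmaOrbits' Q ι).symm.sum_comp, Fintype.sum_sigma]
    refine Finset.sum_congr rfl fun o _ => ?_
    have ho : orbitRel.Quotient.orbit o = orbit Q (rep o) :=
      orbitRel.Quotient.orbit_eq_orbit_out o Quotient.out_eq'
    rw [Finset.sum_eq_card_nsmul (b := Nat.card (X (rep o))), smul_eq_mul, Finset.card_univ,
      ← Nat.card_eq_fintype_card, ho]
    rintro ⟨x, hx⟩ -
    obtain ⟨g, rfl⟩ : x ∈ orbit Q (rep o) := ho ▸ hx
    exact hcardX g (rep o)
  -- the orders of the stabilisers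
  have hν : ∀ i : ι, (0 : ℚ) < Nat.card (stabilizer Q i) := fun i => by exact_mod_cast Nat.card_pos
  have hcls : ∀ C ∈ B, ∃ e : ℕ, 0 < e ∧ e ≤ c ∧ (Nat.card C.carrier : ℚ) / N = 1 / e := by
    intro C hC
    obtain ⟨q, rfl⟩ := ConjClasses.exists_rep C
    have hq := (Finset.mem_filter.1 hC).2 q (ConjClasses.mem_carrier_mk)
    refine ⟨Nat.card (Subgroup.centralizer ({q} : Set Q)), Nat.card_pos, hbad q hq.1 hq.2, ?_⟩
    have hidx : Nat.card (ConjClasses.mk q).carrier =
        (Subgroup.centralizer ({q} : Set Q)).index := by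
      rw [← ConjAct.orbit_eq_carrier_conjClasses, Nat.card_coe_set_eq, ← MulAction.index_stabilizer,
        Subgroup.centralizer_eq_comap_stabilizer]
      exact (Subgroup.index_comap_of_surjective _ ConjAct.toConjAct.surjective).symm
    have hmul := (Subgroup.centralizer ({q} : Set Q)).card_mul_index
    rw [← hidx, ← hN] at hmul
    rw [← hmul]
    have : (0 : ℚ) < Nat.card (Subgroup.centralizer ({q} : Set Q)) := by exact_mod_cast Nat.card_pos
    have : (0 : ℚ) < Nat.card (ConjClasses.mk q).carrier := by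
      have h0 : Nonempty (ConjClasses.mk q).carrier := ⟨⟨q, ConjClasses.mem_carrier_mk⟩⟩
      exact_mod_cast Nat.card_pos
    push_cast
    field_simp
  choose e he0 hec he using hcls
  have hobt : ∀ i : ι, (Nat.card (orbit Q i) : ℚ) * Nat.card (X i) / N =
      Nat.card (X i) / Nat.card (stabilizer Q i) := by
    intro i
    have hmul := (stabilizer Q i).card_mul_index
    rw [index_stabilizer, ← hN] at hmul
    rw [← hmul]
    have := hν i
    have : (0 : ℚ) < (orbit Q i).ncard := by
      have : 0 < (orbit Q i).ncard := (Set.ncard_pos (Set.toFinite _)).2 ⟨i, mem_orbit_self i⟩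
      exact_mod_cast this
    rw [Nat.card_coe_set_eq]
    push_cast
    field_simp
  have hsplit : ∀ i : ι, ∃ j d : ℕ, 0 < d ∧ d ≤ D ∧
      (Nat.card (X i) : ℚ) / Nat.card (stabilizer Q i) =
        (j : ℚ) / d - 1 / Nat.card (stabilizer Q i) ∧
      1 / (2 * D : ℚ) ≤ (Nat.card (X i) : ℚ) / Nat.card (stabilizer Q i) := by
    intro i
    obtain ⟨h2, hdX, ⟨d, hd⟩, hD⟩ := hτ i
    obtain ⟨j, hj⟩ := hdX
    have hd0 : 0 < d := Nat.pos_of_ne_zero fun h0 => by
      rw [h0, mul_zero] at hd; exact Nat.card_pos.ne' hd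
    have hτpos : (0 : ℚ) < τ i := by exact_mod_cast (by omega : 0 < τ i)
    have hdD : d ≤ D := by
      rw [hd, mul_comm] at hD
      exact Nat.le_of_mul_le_mul_right hD (by omega)
    have hXq : (Nat.card (X i) : ℚ) = τ i * j - 1 := by
      have : (Nat.card (X i) : ℚ) + 1 = τ i * j := by exact_mod_cast hj
      linarith
    refine ⟨j, d, hd0, hdD, ?_, ?_⟩
    · rw [hXq, hd]
      push_cast
      field_simp
    · have hX1 : τ i ≤ Nat.card (X i) + 1 := Nat.le_of_dvd (by omega) ⟨j, hj⟩
      have hX2 : τ i * d ≤ 2 * D * Nat.card (X i) := by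
        calc τ i * d ≤ (2 * Nat.card (X i)) * D := Nat.mul_le_mul (by omega) hdD
          _ = 2 * D * Nat.card (X i) := by ring
      rw [div_le_div_iff₀ (by have : 0 < D := by omega
                              positivity) (hν i), one_mul, hd, mul_comm (Nat.card (X i) : ℚ)]
      exact_mod_cast hX2
  choose j d hd0 hdD hsp hlow using hsplit
  have hone : (1 : ℚ) = 1 / N + ∑ C ∈ B, (Nat.card C.carrier : ℚ) / N +
      ∑ o : Quotient (orbitRel Q ι), (Nat.card (X (rep o)) : ℚ) / Nat.card (stabilizer Q (rep o)) := by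
    simp only [← hobt]
    rw [← Finset.sum_div, ← Finset.sum_div, ← add_div, ← add_div, eq_comm,
      div_eq_one_iff_eq (by exact_mod_cast hNpos.ne')]
    rw [horb] at hpart
    exact_mod_cast hpart.symm
  have hdvd : ∀ k : ℕ, 0 < k → k ≤ c + D → k ∣ L := fun k h0 hk => Nat.dvd_factorial h0 (by omega)
  set a : ℤ := (L : ℤ) - ∑ C ∈ B.attach, ((L / e C.1 C.2 : ℕ) : ℤ) -
    ∑ o : Quotient (orbitRel Q ι), ((L / d (rep o) * j (rep o) : ℕ) : ℤ) with ha
  set s : Multiset ℕ := (Finset.univ : Finset (Quotient (orbitRel Q ι))).val.map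
    fun o => Nat.card (stabilizer Q (rep o)) with hs
  have hL0 : (L : ℚ) ≠ 0 := by exact_mod_cast (Nat.factorial_pos _).ne'
  have hscard : s.card ≤ 2 * D := by
    rcases Nat.eq_zero_or_pos D with hD | hD
    · have : IsEmpty ι := ⟨fun i => absurd (hdD i) (by have := hd0 i; omega)⟩
      have : IsEmpty (Quotient (orbitRel Q ι)) := ⟨fun o => isEmptyElim (rep o)⟩
      simp [hs]
    have hnn : 0 ≤ (1 : ℚ) / N + ∑ C ∈ B, (Nat.card C.carrier : ℚ) / N := by positivity
    have hsum := Finset.card_nsmul_le_sum (Finset.univ : Finset (Quotient (orbitRel Q ι)))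
      (fun o => (Nat.card (X (rep o)) : ℚ) / Nat.card (stabilizer Q (rep o)))
      (1 / (2 * D : ℚ)) (fun o _ => hlow (rep o))
    rw [nsmul_eq_mul, mul_one_div] at hsum
    have hle : ((Finset.univ : Finset (Quotient (orbitRel Q ι))).card : ℚ) / (2 * D) ≤ 1 := by linarith
    rw [div_le_one (by positivity)] at hle
    rw [hs, Multiset.card_map]
    exact_mod_cast hle
  rcases hΦ N a s hNpos hscard (by
    intro v hv
    obtain ⟨o, -, rfl⟩ := Multiset.mem_map.1 hv
    exact ⟨Nat.card_pos, Subgroup.card_le_card_group _⟩) (by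
    have hB' : ∑ C ∈ B, (Nat.card C.carrier : ℚ) / N =
        (∑ C ∈ B.attach, ((L / e C.1 C.2 : ℕ) : ℚ)) / L := by
      rw [← Finset.sum_attach B, Finset.sum_div]
      refine Finset.sum_congr rfl fun C _ => ?_
      rw [he C.1 C.2, Nat.cast_div (hdvd _ (he0 _ _) (by have := hec C.1 C.2; omega))
        (by exact_mod_cast (he0 C.1 C.2).ne')]
      field_simp
    have hsumS : (s.map fun v : ℕ => (1 : ℚ) / v).sum =
        ∑ o : Quotient (orbitRel Q ι), (1 : ℚ) / Nat.card (stabilizer Q (rep o)) := by
      rw [hs, Multiset.map_map]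
      rfl
    have hO : ∑ o : Quotient (orbitRel Q ι),
        (Nat.card (X (rep o)) : ℚ) / Nat.card (stabilizer Q (rep o)) =
        (∑ o : Quotient (orbitRel Q ι), ((L / d (rep o) * j (rep o) : ℕ) : ℚ)) / L -
          ∑ o : Quotient (orbitRel Q ι), (1 : ℚ) / Nat.card (stabilizer Q (rep o)) := by
      rw [Finset.sum_div, ← Finset.sum_sub_distrib]
      refine Finset.sum_congr rfl fun o _ => ?_
      rw [hsp, Nat.cast_mul, Nat.cast_div (hdvd _ (hd0 _) (by have := hdD (rep o); omega))
        (by exact_mod_cast (hd0 (rep o)).ne')]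
      have : (d (rep o) : ℚ) ≠ 0 := by exact_mod_cast (hd0 (rep o)).ne'
      field_simp
    have hav : (a : ℚ) / L = 1 - (∑ C ∈ B.attach, ((L / e C.1 C.2 : ℕ) : ℚ)) / L -
        (∑ o : Quotient (orbitRel Q ι), ((L / d (rep o) * j (rep o) : ℕ) : ℚ)) / L := by
      rw [ha, Int.cast_sub, Int.cast_sub, Int.cast_sum, Int.cast_sum]
      simp only [Int.cast_natCast]
      rw [sub_div, sub_div, div_self hL0]
    linarith) with h | h
  · exact Or.inl h
  · obtain ⟨o, -, ho⟩ := Multiset.mem_map.1 h
    exact Or.inr ⟨rep o, Subgroup.eq_top_of_card_eq _ ho⟩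

end Cfsg.Agent.Lib.JordanModular55
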