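import Cfsg.Agent.Lib.JordanModular55.Stable
import Cfsg.Agent.Lib.JordanModular55.Count

/-!
# Jordan's theorem in positive characteristic with bounded Sylow subgroups

A finite linear group of degree `n` in characteristic `p` with Sylow `p`-subgroups of order at most
`p ^ m` has an abelian subgroup of index bounded in terms of `p`, `m` and `n` (Brauer–Feit).
-/

set_option autoImplicit false

namespace Cfsg.Agent.Lib.JordanModular55

universe u v

open MulAction

theorem card_dvd_ncard_of_mul_mem {Q : Type*} [Group Q] [Finite Q] (H : Subgroup Q) (Y : Set Q)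
    (hY : ∀ y ∈ Y, ∀ h ∈ H, y * h ∈ Y) : Nat.card H ∣ Nat.card Y := by
  have he : QuotientGroup.mk ⁻¹' ((QuotientGroup.mk : Q → Q ⧸ H) '' Y) = Y := by
    refine Set.Subset.antisymm ?_ (Set.subset_preimage_image _ _)
    rintro x ⟨y, hy, hyx⟩
    simpa using hY y hy _ (QuotientGroup.eq.1 hyx)
  rw [← he, Nat.card_congr (QuotientGroup.preimageMkEquivSubgroupProdSet H _), Nat.card_prod]
  exact Dvd.intro _ rfl

theorem relIndex_centralizer_fixing_le {G : Type u} [Group G] [Finite G] {K : Type v} [Field K]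
    {V : Type v} [AddCommGroup V] [Module K V] [FiniteDimensional K V] {ρ : G →* Module.End K V}
    (hρ : Function.Injective ρ) (g : G) (hpos : 0 < Module.finrank K V) (S : Subgroup G)
    (hS : ∀ h ∈ S, g⁻¹ * (h * g * h⁻¹) ∈ scalars ρ) :
    (Subgroup.centralizer ({g} : Set G)).relIndex S ≤ Module.finrank K V := by
  classical
  set n := Module.finrank K V
  have hsc : ∀ h ∈ S, ∃ c : K, c ^ n = 1 ∧ ρ (g⁻¹ * (h * g * h⁻¹)) = algebraMap K _ c := by
    intro h hh
    obtain ⟨c, hc⟩ := hS h hh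
    refine ⟨c, ?_, hc⟩
    have hd : LinearMap.det (ρ (g⁻¹ * (h * g * h⁻¹))) = c ^ n := by
      rw [hc, show algebraMap K (Module.End K V) c = c • (LinearMap.id : V →ₗ[K] V) from rfl,
        LinearMap.det_smul, LinearMap.det_id, mul_one]
    let D : G →* K := LinearMap.det.comp ρ
    have : D (g⁻¹ * (h * g * h⁻¹)) = 1 := by
      calc D (g⁻¹ * (h * g * h⁻¹)) = (D g⁻¹ * D g) * (D h * D h⁻¹) := by
            simp only [map_mul]; ring
        _ = 1 := by rw [← map_mul, ← map_mul, inv_mul_cancel, mul_inv_cancel, map_one, mul_one]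
    exact hd.symm.trans this
  choose c hc1 hc using hsc
  let roots := (Polynomial.nthRoots n (1 : K)).toFinset
  let f : ↥S ⧸ (Subgroup.centralizer ({g} : Set G)).subgroupOf S → roots := fun q =>
    ⟨c q.out q.out.2, Multiset.mem_toFinset.2 ((Polynomial.mem_nthRoots hpos).2 (hc1 _ _))⟩
  have hf : Function.Injective f := by
    intro q q' h
    rw [← Quotient.out_eq q, ← Quotient.out_eq q']
    refine QuotientGroup.eq.2 (Subgroup.mem_subgroupOf.2 ?_)
    rw [Subgroup.mem_centralizer_singleton_iff]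
    set a : G := ((q.out : ↥S) : G)
    set b : G := ((q'.out : ↥S) : G)
    have hab : g⁻¹ * (a * g * a⁻¹) = g⁻¹ * (b * g * b⁻¹) := hρ (by
      rw [hc a q.out.2, hc b q'.out.2]
      exact congrArg _ (congrArg Subtype.val h))
    rw [mul_right_inj] at hab
    simp only [Subgroup.coe_mul, Subgroup.coe_inv]
    calc a⁻¹ * b * g = a⁻¹ * (b * g * b⁻¹) * b := by group
      _ = a⁻¹ * (a * g * a⁻¹) * b := by rw [hab]
      _ = g * (a⁻¹ * b) := by group
  calc (Subgroup.centralizer ({g} : Set G)).relIndex S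
      = Nat.card (↥S ⧸ (Subgroup.centralizer ({g} : Set G)).subgroupOf S) := rfl
    _ ≤ Nat.card roots := Nat.card_le_card_of_injective f hf
    _ = roots.card := by rw [Nat.card_eq_fintype_card, Fintype.card_coe]
    _ ≤ Multiset.card (Polynomial.nthRoots n (1 : K)) := Multiset.toFinset_card_le _
    _ ≤ n := Polynomial.card_nthRoots n 1

theorem linearBound_step {p m n b : ℕ} [hp : Fact p.Prime] (hb : LinearBound.{u, v} p m n b) :
    ∃ b', LinearBound.{u, v} p m (n + 1) b' := by
  set β := p ^ m * (b * b * (p ^ m) ^ p ^ m) + 1 with hβdef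
  set d := (n + 1) * (n + 1) with hd
  set c := β ^ d * (p ^ m * β) with hc'
  set D := c * (d + 1) ^ (d + 1) with hD
  obtain ⟨Φ, hΦ⟩ := exists_bound_partition.{u, u} (c * (n + 1)) D
  refine ⟨b + Φ + D, ?_⟩
  intro G _ _ K _ _ _ V _ _ _ ρ hn hρ hm
  by_cases hlt : Module.finrank K V ≤ n
  · exact (hb G K V ρ hlt hρ hm).mono (by omega)
  have hn' : Module.finrank K V = n + 1 := by omega
  have hβ : 1 ≤ β := by omega
  have hcent : CentBound ρ β := fun g hg =>
    (hasAbelian_centralizer hb ρ hn hρ hm g (notMem_scalars.1 hg)).mono (by omega)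
  have hdE : Module.finrank K (Module.End K V) ≤ d := by
    rw [Module.finrank_linearMap, hn']
  set Z := scalars ρ with hZ
  haveI hZn : Z.Normal := scalars_normal hρ
  set π := QuotientGroup.mk' Z with hπ
  have hπker : π.ker = Z := QuotientGroup.ker_mk' Z
  have hπs : Function.Surjective π := QuotientGroup.mk'_surjective Z
  have hcardmap : ∀ H : Subgroup G, Nat.card (H.map π) = Z.relIndex H := fun H => by
    rw [← Subgroup.relIndex_ker, hπker]
  let ι := {T : Subgroup G // IsTop ρ p β T}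
  letI actG : MulAction G ι :=
    { smul := fun g T => ⟨T.1.map (MulAut.conj g).toMonoidHom, isTop_map_conj hρ T.2 g⟩
      one_smul := fun T => Subtype.ext (by
        show T.1.map (MulAut.conj (1 : G)).toMonoidHom = T.1
        rw [map_one]
        exact Subgroup.map_id _)
      mul_smul := fun g h T => Subtype.ext (by
        show T.1.map (MulAut.conj (g * h)).toMonoidHom =
          (T.1.map (MulAut.conj h).toMonoidHom).map (MulAut.conj g).toMonoidHom
        rw [map_mul, Subgroup.map_map]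
        rfl) }
  have hZact : Z ≤ (MulAction.toPermHom G ι).ker := by
    intro z hz
    refine MonoidHom.mem_ker.2 (Equiv.ext fun T => Subtype.ext ?_)
    show T.1.map (MulAut.conj z).toMonoidHom = T.1
    have hid : (MulAut.conj z).toMonoidHom = MonoidHom.id G := MonoidHom.ext fun x => by
      show z * x * z⁻¹ = x
      rw [commute_of_mem_scalars hρ hz x]
      group
    rw [hid, Subgroup.map_id]
  letI actQ : MulAction (G ⧸ Z) ι := MulAction.compHom ι (QuotientGroup.lift Z (MulAction.toPermHom G ι) hZact)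
  have hsmul : ∀ (g : G) (T : ι), (π g • T : ι) = g • T := fun g T => rfl
  haveI : Finite ι := inferInstance
  have hZle : ∀ T : ι, Z ≤ T.1 := fun T => scalars_le_top hρ hcent T.2
  -- the elements attached to a top subgroup
  set P : ι → Set G := fun T =>
    {g | g ∉ Z ∧ ∃ B, IsBig ρ p β B ∧ B ≤ T.1 ∧ B ≤ Subgroup.centralizer ({g} : Set G)} with hP
  have hsat : ∀ (T : ι) g, g ∈ P T → ∀ z ∈ Z, g * z ∈ P T := by
    rintro T g ⟨hg, B, hB, hBT, hBg⟩ z hz
    refine ⟨fun h => hg (by simpa using Z.mul_mem h (Z.inv_mem hz)), B, hB, hBT, fun x hx => ?_⟩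
    rw [Subgroup.mem_centralizer_singleton_iff]
    have h1 := Subgroup.mem_centralizer_singleton_iff.1 (hBg hx)
    rw [← mul_assoc, h1, mul_assoc, ← commute_of_mem_scalars hρ hz x, mul_assoc]
  have hmemX : ∀ (T : ι) g, π g ∈ π '' P T ↔ g ∈ P T := by
    refine fun T g => ⟨?_, fun h => ⟨g, h, rfl⟩⟩
    rintro ⟨g', hg', he⟩
    have := hsat T g' hg' _ (QuotientGroup.eq.1 he)
    simpa using this
  have hstab : ∀ T : ι, stabilizer (G ⧸ Z) T = (Subgroup.normalizer (T.1 : Set G)).map π := by
    intro T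
    have hmem : ∀ g : G, g • T = T ↔ g ∈ Subgroup.normalizer (T.1 : Set G) := by
      intro g
      rw [Subgroup.mem_normalizer_iff_map_conj_eq]
      exact Subtype.ext_iff
    ext q
    obtain ⟨g, rfl⟩ := hπs q
    rw [mem_stabilizer_iff, hsmul, hmem]
    refine ⟨fun h => ⟨g, h, rfl⟩, ?_⟩
    rintro ⟨g', hg', he⟩
    have hmem' : g'⁻¹ * g ∈ Z := QuotientGroup.eq.1 he
    have : g = g' * (g'⁻¹ * g) := by group
    rw [this]
    exact Subgroup.mul_mem _ hg' (Subgroup.le_normalizer (hZle T hmem'))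
  have hTN : ∀ T : ι, T.1.relIndex (Subgroup.normalizer (T.1 : Set G)) ≤ D := by
    intro T
    obtain ⟨s, hs, hsZ⟩ := SetLike.not_le_iff_exists.1 T.2.1.2
    have hTC : T.1 ≤ Subgroup.centralizer (T.1 : Set G) := fun x hx =>
      Subgroup.mem_centralizer_iff.2 fun y hy => T.2.1.1.1.1 y hy x hx
    obtain ⟨B, hBC, hBi, hBs⟩ := exists_stable_in hρ hβ hm hdE hcent hsZ
      (Subgroup.centralizer_le (Set.singleton_subset_iff.2 hs) :
        Subgroup.centralizer (T.1 : Set G) ≤ _)
    have hBT : B ≤ T.1 := by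
      by_cases h : B ≤ Z
      · exact h.trans (hZle T)
      · exact T.2.2 B ⟨hBs, h⟩ hBC
    have hCN : Subgroup.centralizer (T.1 : Set G) ≤ Subgroup.normalizer (T.1 : Set G) :=
      Subgroup.centralizer_le_normalizer _
    rw [← Subgroup.relIndex_mul_relIndex _ _ _ hTC hCN]
    refine Nat.mul_le_mul ((Nat.le_of_dvd (Nat.pos_of_ne_zero (relIndex_ne_zero' _ _))
      (Subgroup.relIndex_dvd_of_le_left _ hBT)).trans hBi) ?_
    exact relIndex_centralizer_normalizer_le hρ hdE T.2.1.1.1
  rcases hΦ (G ⧸ Z) ι (fun T => π '' P T) (fun T => Nat.card (T.1.map π))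
    (fun T h => by
      obtain ⟨g, hg, he⟩ := h
      exact hg.1 ((QuotientGroup.eq_one_iff g).1 he))
    (fun T q x hx => by
      obtain ⟨g, rfl⟩ := hπs q
      obtain ⟨y, ⟨hy, B, hB, hBT, hBy⟩, rfl⟩ := hx
      rw [← map_inv, ← map_mul, ← map_mul, hsmul]
      obtain ⟨B', hB', hBB'⟩ := exists_top hcent hB
      have hT' : B' = T.1 := top_eq hcent hB' T.2 hB hB hBB' hBT (fun x hx =>
        Subgroup.mem_centralizer_iff.2 fun w hw => hB.1.1.1 w hw x hx)
      refine (hmemX _ _).2 ⟨fun h => hy (by simpa [mul_assoc] using hZn.conj_mem _ h g⁻¹), ?_⟩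
      obtain ⟨s, hs, hsZ⟩ := SetLike.not_le_iff_exists.1 hB.2
      refine ⟨B.map (MulAut.conj g).toMonoidHom, ⟨?_, ?_⟩, Subgroup.map_mono hBT, ?_⟩
      · exact stable_map_conj hρ hB.1 g
      · intro h
        exact hsZ (by simpa [mul_assoc] using hZn.conj_mem _ (h ⟨s, hs, rfl⟩) g⁻¹)
      · rintro _ ⟨w, hw, rfl⟩
        rw [Subgroup.mem_centralizer_singleton_iff]
        have := Subgroup.mem_centralizer_singleton_iff.1 (hBy hw)
        show g * w * g⁻¹ * (g * y * g⁻¹) = g * y * g⁻¹ * (g * w * g⁻¹)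
        calc g * w * g⁻¹ * (g * y * g⁻¹) = g * (w * y) * g⁻¹ := by group
          _ = g * (y * w) * g⁻¹ := by rw [this]
          _ = _ := by group)
    (fun T T' q hq hq' => by
      obtain ⟨g, rfl⟩ := hπs q
      obtain ⟨hg, B, hB, hBT, hBg⟩ := (hmemX T g).1 hq
      obtain ⟨-, B', hB', hBT', hBg'⟩ := (hmemX T' g).1 hq'
      exact Subtype.ext (top_eq hcent T.2 T'.2 hB hB' hBT hBT'
        (stable_commute hcent hg hB.1 hB'.1 hBg hBg')))
    (fun q hq hno => by
      obtain ⟨g, rfl⟩ := hπs q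
      have hg : g ∉ Z := fun h => hq ((QuotientGroup.eq_one_iff g).2 h)
      obtain ⟨B, hBg, hBi, hBs⟩ := exists_stable_in hρ hβ hm hdE hcent hg le_rfl
      have hBZ : B ≤ Z := by
        by_contra h
        obtain ⟨T, hT, hBT⟩ := exists_top hcent ⟨hBs, h⟩
        exact hno ⟨T, hT⟩ ⟨g, ⟨hg, B, ⟨hBs, h⟩, hBT, hBg⟩, rfl⟩
      set S := (Subgroup.centralizer ({π g} : Set (G ⧸ Z))).comap π with hS
      have hCS : Subgroup.centralizer ({g} : Set G) ≤ S := fun h hh => by
        rw [hS, Subgroup.mem_comap, Subgroup.mem_centralizer_singleton_iff, ← map_mul, ← map_mul,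
          Subgroup.mem_centralizer_singleton_iff.1 hh]
      have hZC : Z ≤ Subgroup.centralizer ({g} : Set G) := fun z hz =>
        Subgroup.mem_centralizer_singleton_iff.2 (commute_of_mem_scalars hρ hz g)
      rw [← Subgroup.map_comap_eq_self_of_surjective hπs (Subgroup.centralizer ({π g} : Set (G ⧸ Z))),
        hcardmap, ← Subgroup.relIndex_mul_relIndex Z _ S hZC hCS]
      refine Nat.mul_le_mul ((Nat.le_of_dvd (Nat.pos_of_ne_zero (relIndex_ne_zero' _ _))
        (Subgroup.relIndex_dvd_of_le_left _ hBZ)).trans hBi) ?_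
      refine (relIndex_centralizer_fixing_le hρ g (by omega) S fun h hh => ?_).trans hn'.le
      have h1 := Subgroup.mem_centralizer_singleton_iff.1 (Subgroup.mem_comap.1 hh)
      refine (QuotientGroup.eq_one_iff _).1 ?_
      show π (g⁻¹ * (h * g * h⁻¹)) = 1
      simp only [map_mul, map_inv, h1]
      group)
    (fun T => by
      refine ⟨?_, ?_, ?_, ?_⟩
      · haveI : Nontrivial (T.1.map π) := by
          rw [Subgroup.nontrivial_iff_ne_bot, Ne, Subgroup.map_eq_bot_iff, hπker]
          exact T.2.1.2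
        exact Finite.one_lt_card
      · have h1 : (1 : G ⧸ Z) ∉ π '' P T := by
          rintro ⟨g, hg, he⟩
          exact hg.1 ((QuotientGroup.eq_one_iff g).1 he)
        rw [Nat.card_coe_set_eq, ← Set.ncard_insert_of_notMem h1 (Set.toFinite _), ← Nat.card_coe_set_eq]
        refine card_dvd_ncard_of_mul_mem _ _ ?_
        rintro y hy _ ⟨t, ht, rfl⟩
        obtain ⟨g, rfl⟩ := hπs y
        by_cases htZ : g * t ∈ Z
        · rw [← map_mul]
          exact Or.inl ((QuotientGroup.eq_one_iff _).2 htZ)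
        · have hgt : g * t ∉ Z := htZ
          rw [← map_mul]
          refine Or.inr ((hmemX T _).2 ⟨hgt, ?_⟩)
          rcases hy with hy | hy
          · have hgT : g * t ∈ T.1 :=
              T.1.mul_mem (hZle T ((QuotientGroup.eq_one_iff g).1 hy)) ht
            exact ⟨T.1, T.2.1, le_rfl, fun x hx => Subgroup.mem_centralizer_singleton_iff.2
              (T.2.1.1.1.1 x hx _ hgT)⟩
          · obtain ⟨-, B, hB, hBT, hBg⟩ := (hmemX T g).1 hy
            refine ⟨B, hB, hBT, fun x hx => Subgroup.mem_centralizer_singleton_iff.2 ?_⟩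
            rw [← mul_assoc, Subgroup.mem_centralizer_singleton_iff.1 (hBg hx), mul_assoc,
              T.2.1.1.1.1 x (hBT hx) t ht, mul_assoc]
      · rw [hstab]
        exact Subgroup.card_dvd_of_le (Subgroup.map_mono Subgroup.le_normalizer)
      · rw [hstab, hcardmap, hcardmap,
          ← Subgroup.relIndex_mul_relIndex Z T.1 _ (hZle T) Subgroup.le_normalizer, mul_comm D]
        exact Nat.mul_le_mul_left _ (hTN T)) with h | ⟨T, hT⟩
  · refine ⟨Z, fun x hx y _ => commute_of_mem_scalars hρ hx y, ?_⟩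
    rw [Subgroup.index]
    omega
  · refine ⟨T.1, T.2.1.1.1.1, ?_⟩
    have hNtop : Subgroup.normalizer (T.1 : Set G) = ⊤ := by
      rw [hstab] at hT
      refine top_le_iff.1 fun g _ => ?_
      obtain ⟨g', hg', he⟩ := (hT.ge (Subgroup.mem_top (π g)) : π g ∈ _)
      have hmem' : g'⁻¹ * g ∈ Z := QuotientGroup.eq.1 he
      rw [show g = g' * (g'⁻¹ * g) by group]
      exact Subgroup.mul_mem _ hg' (Subgroup.le_normalizer (hZle T hmem'))
    have := hTN T
    rw [hNtop, Subgroup.relIndex_top_right] at this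
    omega

theorem exists_linearBound (p m : ℕ) [Fact p.Prime] : ∀ n : ℕ, ∃ b, LinearBound.{u, v} p m n b := by
  intro n
  induction n with
  | zero =>
    refine ⟨1, fun G _ _ K _ _ _ V _ _ _ ρ hn hρ _ => ?_⟩
    haveI : Subsingleton V := Module.finrank_zero_iff.1 (Nat.le_zero.1 hn)
    haveI : Subsingleton G := ⟨fun a b => hρ (Subsingleton.elim _ _)⟩
    exact ⟨⊤, fun x _ y _ => Subsingleton.elim _ _, by simp⟩
  | succ n ih =>
    obtain ⟨b, hb⟩ := ih
    exact linearBound_step hb

end Cfsg.Agent.Lib.JordanModular55
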