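import Mathlib

/-!
# Reducible linear groups over fields of positive characteristic

A finite linear group with a proper invariant subspace and bounded Sylow subgroup has an abelian
subgroup of bounded index as soon as linear groups of smaller degree do.
-/

set_option autoImplicit false

namespace Cfsg.Agent.Lib.JordanModular55

universe u v

/-- There is an abelian subgroup of index at most `b`. -/
def HasAbelian (b : ℕ) (G : Type*) [Group G] : Prop :=
  ∃ A : Subgroup G, (∀ x ∈ A, ∀ y ∈ A, x * y = y * x) ∧ A.index ≤ b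

/-- Linear groups of degree at most `n` have an abelian subgroup of index at most `b`. -/
def LinearBound (p m n b : ℕ) : Prop :=
  ∀ (G : Type u) [Group G] [Finite G] (K : Type v) [Field K] [CharP K p] [IsAlgClosed K]
    (V : Type v) [AddCommGroup V] [Module K V] [FiniteDimensional K V] (ρ : G →* Module.End K V),
    Module.finrank K V ≤ n → Function.Injective ρ → (Nat.card G).factorization p ≤ m → HasAbelian b G

theorem HasAbelian.mono {G : Type*} [Group G] {b b' : ℕ} (h : HasAbelian b G) (hb : b ≤ b') :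
    HasAbelian b' G := by
  obtain ⟨A, hA, hi⟩ := h
  exact ⟨A, hA, hi.trans hb⟩

theorem hasAbelian_of_subgroup {G : Type*} [Group G] {H : Subgroup G} {b k : ℕ}
    (h : HasAbelian b H) (hH : H.index ≤ k) : HasAbelian (b * k) G := by
  obtain ⟨A, hA, hi⟩ := h
  refine ⟨A.map H.subtype, ?_, ?_⟩
  · rintro _ ⟨x, hx, rfl⟩ _ ⟨y, hy, rfl⟩
    simp only [← map_mul, hA x hx y hy]
  · rw [Subgroup.index_map_subtype]
    exact Nat.mul_le_mul hi hH

theorem card_le_prime_pow {G : Type*} [Group G] [Finite G] {p m : ℕ} [hp : Fact p.Prime]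
    (hm : (Nat.card G).factorization p ≤ m) (H : Subgroup G) (hH : IsPGroup p H) :
    Nat.card H ≤ p ^ m := by
  obtain ⟨k, hk⟩ := IsPGroup.iff_card.1 hH
  rw [hk]
  refine Nat.pow_le_pow_right hp.out.pos (le_trans ?_ hm)
  have h := H.card_subgroup_dvd_card
  rw [hk] at h
  exact (hp.out.pow_dvd_iff_le_factorization Nat.card_pos.ne').1 h

theorem factorization_subgroup_le {G : Type*} [Group G] [Finite G] {p m : ℕ}
    (hm : (Nat.card G).factorization p ≤ m) (H : Subgroup G) : (Nat.card H).factorization p ≤ m :=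
  ((Nat.factorization_le_iff_dvd Nat.card_pos.ne' Nat.card_pos.ne').2 H.card_subgroup_dvd_card p).trans hm

/-- A normal subgroup containing all `p ^ m`-th powers has index at most `p ^ m`. -/
theorem index_le_prime_pow {G : Type*} [Group G] [Finite G] {p m : ℕ} [hp : Fact p.Prime]
    (hm : (Nat.card G).factorization p ≤ m) (N : Subgroup G) [N.Normal]
    (h : ∀ x : G, x ^ p ^ m ∈ N) : N.index ≤ p ^ m := by
  have hP : IsPGroup p (G ⧸ N) := by
    intro x
    obtain ⟨x, rfl⟩ := QuotientGroup.mk'_surjective N x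
    exact ⟨m, by rw [← map_pow]; exact (QuotientGroup.eq_one_iff _).2 (h x)⟩
  obtain ⟨k, hk⟩ := IsPGroup.iff_card.1 hP
  rw [Subgroup.index, hk]
  refine Nat.pow_le_pow_right hp.out.pos (le_trans ?_ hm)
  refine (hp.out.pow_dvd_iff_le_factorization Nat.card_pos.ne').1 ?_
  rw [← hk]
  exact N.index_dvd_card

theorem one_add_pow_of_sq_zero {R : Type*} [Ring R] {x : R} (hx : x * x = 0) (k : ℕ) :
    (1 + x) ^ k = 1 + (k : R) * x := by
  induction k with
  | zero => simp
  | succ k ih =>
    rw [pow_succ, ih, Nat.cast_succ, add_mul, one_mul, add_mul, one_mul, mul_add, mul_one, mul_assoc, hx,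
      mul_zero, add_zero]
    abel

variable {p m n b : ℕ}

theorem hasAbelian_of_invariant [hp : Fact p.Prime] (hb : LinearBound.{u, v} p m n b)
    {G : Type u} [Group G] [Finite G] {K : Type v} [Field K] [CharP K p] [IsAlgClosed K]
    {V : Type v} [AddCommGroup V] [Module K V] [FiniteDimensional K V] (ρ : G →* Module.End K V)
    (hn : Module.finrank K V ≤ n + 1) (hρ : Function.Injective ρ)
    (hm : (Nat.card G).factorization p ≤ m) (W : Submodule K V) (hW0 : W ≠ ⊥) (hW1 : W ≠ ⊤)
    (hinv : ∀ g : G, ∀ w ∈ W, ρ g w ∈ W) :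
    HasAbelian (p ^ m * (b * b * (p ^ m) ^ p ^ m)) G := by
  classical
  let ρ₁ : G →* Module.End K W :=
    { toFun := fun g => (ρ g).restrict (hinv g)
      map_one' := LinearMap.ext fun w => Subtype.ext (by simp [LinearMap.restrict_apply])
      map_mul' := fun g h => LinearMap.ext fun w => Subtype.ext (by simp [LinearMap.restrict_apply]) }
  let ρ₂ : G →* Module.End K (V ⧸ W) :=
    { toFun := fun g => W.mapQ W (ρ g) fun w hw => hinv g w hw
      map_one' := Submodule.linearMap_qext _ (LinearMap.ext fun w => by simp)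
      map_mul' := fun g h => Submodule.linearMap_qext _ (LinearMap.ext fun w => by simp) }
  have hfW : Module.finrank K W ≤ n := by
    have := Submodule.finrank_lt hW1
    omega
  have hfQ : Module.finrank K (V ⧸ W) ≤ n := by
    have h1 := W.finrank_quotient_add_finrank
    have h2 : 1 ≤ Module.finrank K W := Submodule.one_le_finrank_iff.2 hW0
    omega
  have sect : ∀ (U : Type v) [AddCommGroup U] [Module K U] [FiniteDimensional K U]
      (σ : G →* Module.End K U), Module.finrank K U ≤ n →
      ∃ A : Subgroup G, A.index ≤ b ∧ ∀ x ∈ A, ∀ y ∈ A, σ (x * y * x⁻¹ * y⁻¹) = 1 := by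
    intro U _ _ _ σ hU
    let σ' := (Units.coeHom (Module.End K U)).comp (QuotientGroup.kerLift σ.toHomUnits)
    have hinj : Function.Injective σ' :=
      Units.val_injective.comp (QuotientGroup.kerLift_injective _)
    obtain ⟨A, hA, hi⟩ := hb (G ⧸ σ.toHomUnits.ker) K U σ' hU hinj
      (((Nat.factorization_le_iff_dvd Nat.card_pos.ne' Nat.card_pos.ne').2
        σ.toHomUnits.ker.index_dvd_card p).trans hm)
    refine ⟨A.comap (QuotientGroup.mk' _), ?_, fun x hx y hy => ?_⟩
    · rw [Subgroup.index_comap_of_surjective _ (QuotientGroup.mk'_surjective _)]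
      exact hi
    · have h : ((x * y * x⁻¹ * y⁻¹ : G) : G ⧸ σ.toHomUnits.ker) = 1 := by
        have hc := hA _ (Subgroup.mem_comap.1 hx) _ (Subgroup.mem_comap.1 hy)
        simp only [QuotientGroup.mk'_apply] at hc
        simp only [QuotientGroup.mk_mul, QuotientGroup.mk_inv]
        rw [hc]
        group
      have := congrArg Units.val (MonoidHom.mem_ker.1 ((QuotientGroup.eq_one_iff _).1 h))
      exact this
  obtain ⟨A₁, hA₁i, hA₁⟩ := sect W ρ₁ hfW
  obtain ⟨A₂, hA₂i, hA₂⟩ := sect (V ⧸ W) ρ₂ hfQ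
  let U : Subgroup G := ρ₁.ker ⊓ ρ₂.ker
  have hUp : IsPGroup p U := by
    rintro ⟨g, hg₁, hg₂⟩
    refine ⟨1, Subtype.ext (hρ ?_)⟩
    rw [pow_one, Subgroup.coe_pow, Subgroup.coe_one, map_pow, map_one]
    have hw : ∀ w ∈ W, ρ g w = w := fun w hw => congrArg Subtype.val
      (LinearMap.congr_fun (MonoidHom.mem_ker.1 hg₁) ⟨w, hw⟩)
    have hq : ∀ x : V, ρ g x - x ∈ W := fun x =>
      (Submodule.Quotient.eq W).1 (LinearMap.congr_fun (MonoidHom.mem_ker.1 hg₂) (Submodule.Quotient.mk x))
    have hsq : (ρ g - 1) * (ρ g - 1) = 0 := LinearMap.ext fun x => by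
      simp only [Module.End.mul_apply, LinearMap.sub_apply, Module.End.one_apply, LinearMap.zero_apply]
      rw [hw _ (hq x), sub_self]
    have h := one_add_pow_of_sq_zero hsq p
    rw [add_sub_cancel] at h
    rw [h, ← map_natCast (algebraMap K (Module.End K V)), CharP.cast_eq_zero K p, map_zero, zero_mul,
      add_zero]
  have hUcard : Nat.card U ≤ p ^ m := card_le_prime_pow hm U hUp
  let C : Subgroup G := A₁ ⊓ A₂ ⊓ Subgroup.centralizer (U : Set G)
  have hcentU : (Subgroup.centralizer (U : Set G)).index ≤ (p ^ m) ^ p ^ m := by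
    haveI : (U : Subgroup G).Normal := inferInstance
    let φ := MulAut.conjNormal (G := G) (H := U)
    have hker : φ.ker ≤ Subgroup.centralizer (U : Set G) := by
      intro g hg
      refine Subgroup.mem_centralizer_iff.2 fun x hx => ?_
      have := congrArg Subtype.val (MulEquiv.congr_fun (MonoidHom.mem_ker.1 hg) ⟨x, hx⟩)
      simp only [φ, MulAut.conjNormal_apply, MulAut.one_apply] at this
      calc x * g = g * x * g⁻¹ * g := by rw [this]
        _ = g * x := by group
    haveI : Finite (MulAut U) := Finite.of_injective (fun a : MulAut U => (a : U → U)) DFunLike.coe_injective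
    calc (Subgroup.centralizer (U : Set G)).index ≤ φ.ker.index :=
          Nat.le_of_dvd (Nat.pos_of_ne_zero Subgroup.index_ne_zero_of_finite) (Subgroup.index_dvd_of_le hker)
      _ = Nat.card φ.range := Subgroup.index_ker φ
      _ ≤ Nat.card (MulAut U) := Subgroup.card_le_card_group _
      _ ≤ Nat.card (U → U) := Nat.card_le_card_of_injective (fun a : MulAut U => (a : U → U)) DFunLike.coe_injective
      _ = Nat.card U ^ Nat.card U := Nat.card_fun
      _ ≤ (p ^ m) ^ p ^ m := (Nat.pow_le_pow_left hUcard _).trans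
          (Nat.pow_le_pow_right (pow_pos hp.out.pos m) hUcard)
  have hCi : C.index ≤ b * b * (p ^ m) ^ p ^ m :=
    (Subgroup.index_inf_le).trans (Nat.mul_le_mul
      ((Subgroup.index_inf_le).trans (Nat.mul_le_mul hA₁i hA₂i)) hcentU)
  refine hasAbelian_of_subgroup ⟨Subgroup.center C, fun x hx y _ => (Subgroup.mem_center_iff.1 hx y).symm,
    index_le_prime_pow (factorization_subgroup_le hm C) _ fun x => ?_⟩ hCi
  refine Subgroup.mem_center_iff.2 fun y => Subtype.ext ?_
  obtain ⟨x, ⟨hx₁, hx₂⟩, hxU⟩ := x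
  obtain ⟨y, ⟨hy₁, hy₂⟩, hyU⟩ := y
  simp only [Subgroup.coe_mul, Subgroup.coe_pow]
  set k := x * y * x⁻¹ * y⁻¹ with hk
  have hkU : k ∈ U := ⟨MonoidHom.mem_ker.2 (hA₁ x hx₁ y hy₁), MonoidHom.mem_ker.2 (hA₂ x hx₂ y hy₂)⟩
  have hxk : Commute k x := Subgroup.mem_centralizer_iff.1 hxU k hkU
  have hpow : ∀ j : ℕ, x ^ j * y = k ^ j * y * x ^ j := by
    intro j
    induction j with
    | zero => simp
    | succ j ih =>
      calc x ^ (j + 1) * y = x * (x ^ j * y) := by rw [pow_succ', mul_assoc]
        _ = (x * k ^ j) * y * x ^ j := by rw [ih]; group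
        _ = (k ^ j * x) * y * x ^ j := by rw [(hxk.pow_left j).eq]
        _ = k ^ j * (x * y) * x ^ j := by group
        _ = k ^ j * (k * y * x) * x ^ j := by rw [hk]; group
        _ = k ^ (j + 1) * y * x ^ (j + 1) := by rw [pow_succ, pow_succ']; group
  have hk1 : k ^ p ^ m = 1 := by
    obtain ⟨e, he⟩ := IsPGroup.iff_card.1 hUp
    have h1 : (⟨k, hkU⟩ : U) ^ p ^ m = 1 := by
      refine orderOf_dvd_iff_pow_eq_one.1 ((orderOf_dvd_natCard _).trans ?_)
      rw [he] at hUcard ⊢
      exact Nat.pow_dvd_pow p ((Nat.pow_le_pow_iff_right hp.out.one_lt).1 hUcard)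
    simpa using congrArg Subtype.val h1
  rw [hpow, hk1, one_mul]

theorem hasAbelian_centralizer [Fact p.Prime] (hb : LinearBound.{u, v} p m n b)
    {G : Type u} [Group G] [Finite G] {K : Type v} [Field K] [CharP K p] [IsAlgClosed K]
    {V : Type v} [AddCommGroup V] [Module K V] [FiniteDimensional K V] (ρ : G →* Module.End K V)
    (hn : Module.finrank K V ≤ n + 1) (hρ : Function.Injective ρ)
    (hm : (Nat.card G).factorization p ≤ m) (g : G)
    (hg : ∀ c : K, ρ g ≠ algebraMap K (Module.End K V) c) :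
    HasAbelian (p ^ m * (b * b * (p ^ m) ^ p ^ m)) (Subgroup.centralizer ({g} : Set G)) := by
  haveI : Nontrivial V := by
    by_contra hV
    haveI := not_nontrivial_iff_subsingleton.1 hV
    exact hg 0 (LinearMap.ext fun x => Subsingleton.elim _ _)
  obtain ⟨c, hc⟩ := Module.End.exists_eigenvalue (ρ g)
  refine hasAbelian_of_invariant hb (ρ.comp (Subgroup.subtype _)) hn
    (hρ.comp Subtype.val_injective) (factorization_subgroup_le hm _) ((ρ g).eigenspace c)
    (Module.End.hasEigenvalue_iff.1 hc) ?_ ?_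
  · intro htop
    refine hg c (LinearMap.ext fun x => ?_)
    have : x ∈ (ρ g).eigenspace c := htop ▸ Submodule.mem_top
    rw [Module.algebraMap_end_apply]
    exact Module.End.mem_eigenspace_iff.1 this
  · rintro ⟨h, hh⟩ w hw
    rw [Module.End.mem_eigenspace_iff] at hw ⊢
    have hcomm : ρ g * ρ h = ρ h * ρ g := by
      rw [← map_mul, ← map_mul, Subgroup.mem_centralizer_iff.1 hh g rfl]
    show ρ g (ρ h w) = c • ρ h w
    rw [← Module.End.mul_apply, hcomm, Module.End.mul_apply, hw, map_smul]

end Cfsg.Agent.Lib.JordanModular55
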