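import Cfsg.Agent.Lib.JordanModular55.Reducible

/-!
# Stable abelian subgroups of finite linear groups

An abelian subgroup of order prime to the characteristic is stable when its subgroups of index at
most `β` have the same centraliser. Every such subgroup contains a stable one of bounded index.
-/

set_option autoImplicit false

namespace Cfsg.Agent.Lib.JordanModular55

universe u v

variable {G : Type u} [Group G] [Finite G] {K : Type v} [Field K] {V : Type v} [AddCommGroup V]
  [Module K V] {ρ : G →* Module.End K V} {p β : ℕ}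

/-- The elements acting as scalars. -/
def scalars (ρ : G →* Module.End K V) : Subgroup G where
  carrier := {g | ∃ c : K, ρ g = algebraMap K _ c}
  one_mem' := ⟨1, by rw [map_one, map_one]⟩
  mul_mem' := by
    rintro a b ⟨c, hc⟩ ⟨d, hd⟩
    exact ⟨c * d, by rw [map_mul, map_mul, hc, hd]⟩
  inv_mem' := by
    rintro a ⟨c, hc⟩
    refine ⟨c ^ (orderOf a - 1), ?_⟩
    have h : a⁻¹ = a ^ (orderOf a - 1) := by
      refine inv_eq_of_mul_eq_one_left ?_
      rw [← pow_succ, Nat.sub_add_cancel (orderOf_pos a), pow_orderOf_eq_one]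
    rw [h, map_pow, map_pow, hc]

theorem notMem_scalars {g : G} : g ∉ scalars ρ ↔ ∀ c : K, ρ g ≠ algebraMap K _ c := not_exists

theorem commute_of_mem_scalars (hρ : Function.Injective ρ) {z : G} (hz : z ∈ scalars ρ) (g : G) :
    z * g = g * z := by
  obtain ⟨c, hc⟩ := hz
  exact hρ (by rw [map_mul, map_mul, hc, Algebra.commutes])

theorem scalars_normal (hρ : Function.Injective ρ) : (scalars ρ).Normal :=
  ⟨fun z hz g => by rw [← commute_of_mem_scalars hρ hz g]; simpa using hz⟩

/-- Abelian of order prime to `p`. -/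
def IsPrimeAb (p : ℕ) (B : Subgroup G) : Prop :=
  (∀ x ∈ B, ∀ y ∈ B, x * y = y * x) ∧ ∀ x ∈ B, ¬ p ∣ orderOf x

theorem IsPrimeAb.mono {A B : Subgroup G} (hA : IsPrimeAb p A) (h : B ≤ A) : IsPrimeAb p B :=
  ⟨fun x hx y hy => hA.1 x (h hx) y (h hy), fun x hx => hA.2 x (h hx)⟩

theorem isPrimeAb_scalars [hp : Fact p.Prime] [CharP K p] (hρ : Function.Injective ρ) :
    IsPrimeAb p (scalars ρ) := by
  refine ⟨fun x hx y _ => commute_of_mem_scalars hρ hx y, fun x hx hdvd => ?_⟩
  obtain ⟨c, hc⟩ := (scalars ρ).pow_mem hx (orderOf x / p)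
  set y := x ^ (orderOf x / p)
  have hy : orderOf y = p := orderOf_pow_orderOf_div (orderOf_pos x).ne' hdvd
  rcases subsingleton_or_nontrivial V with hV | hV
  · refine hp.out.ne_one ?_
    rw [← hy, orderOf_eq_one_iff]
    exact hρ (Subsingleton.elim _ _)
  · have h1 : algebraMap K (Module.End K V) (c ^ p) = algebraMap K _ 1 := by
      rw [map_pow, ← hc, ← map_pow, ← hy, pow_orderOf_eq_one, map_one, map_one]
    have h2 : c = 1 := by
      have h3 : c ^ p = 1 := (algebraMap K (Module.End K V)).injective h1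
      have h4 : (c - 1) ^ p = 0 := by rw [sub_pow_char, h3, one_pow, sub_self]
      exact sub_eq_zero.1 (eq_zero_of_pow_eq_zero h4)
    refine hp.out.ne_one ?_
    rw [← hy, orderOf_eq_one_iff]
    exact hρ (by rw [hc, h2, map_one, map_one])

/-- Subgroups of index at most `β` have the same centraliser. -/
def IsStableAb (p β : ℕ) (B : Subgroup G) : Prop :=
  IsPrimeAb p B ∧ ∀ B' ≤ B, B'.relIndex B ≤ β →
    Subgroup.centralizer (B' : Set G) ≤ Subgroup.centralizer (B : Set G)

/-- Stable and not consisting of scalars. -/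
def IsBig (ρ : G →* Module.End K V) (p β : ℕ) (B : Subgroup G) : Prop :=
  IsStableAb p β B ∧ ¬ B ≤ scalars ρ

theorem relIndex_ne_zero' (H L : Subgroup G) : H.relIndex L ≠ 0 :=
  Subgroup.index_ne_zero_of_finite

theorem relIndex_inf_le_of_le {A B H : Subgroup G} (hBH : B ≤ H) :
    (A ⊓ B).relIndex B ≤ A.relIndex H := by
  rw [Subgroup.inf_relIndex_right]
  exact Subgroup.relIndex_le_of_le_right hBH (relIndex_ne_zero' A H)

/-- The algebra spanned by the image of a subgroup. -/
abbrev hull (ρ : G →* Module.End K V) (B : Subgroup G) : Subalgebra K (Module.End K V) :=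
  Algebra.adjoin K (ρ '' (B : Set G))

theorem mem_hull {B : Subgroup G} {b : G} (hb : b ∈ B) : ρ b ∈ hull ρ B :=
  Algebra.subset_adjoin ⟨b, hb, rfl⟩

theorem mem_centralizer_of_hull_le (hρ : Function.Injective ρ) {B B' : Subgroup G} {g : G}
    (hg : g ∈ Subgroup.centralizer (B' : Set G)) (h : hull ρ B ≤ hull ρ B') :
    g ∈ Subgroup.centralizer (B : Set G) := by
  refine Subgroup.mem_centralizer_iff.2 fun b hb => hρ ?_
  have hle : hull ρ B' ≤ Subalgebra.centralizer K ({ρ g} : Set (Module.End K V)) := by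
    refine Algebra.adjoin_le ?_
    rintro _ ⟨b', hb', rfl⟩
    refine Subalgebra.mem_centralizer_iff K |>.2 ?_
    rintro _ rfl
    rw [← map_mul, ← map_mul, Subgroup.mem_centralizer_iff.1 hg b' hb']
  rw [map_mul, map_mul]
  exact ((Subalgebra.mem_centralizer_iff K).1 (hle (h (mem_hull hb))) (ρ g) rfl).symm

theorem exists_stable [FiniteDimensional K V] (hρ : Function.Injective ρ) (hβ : 1 ≤ β) (k : ℕ) :
    ∀ A : Subgroup G, IsPrimeAb p A → Module.finrank K (hull ρ A) ≤ k →
      ∃ B ≤ A, B.relIndex A ≤ β ^ k ∧ IsStableAb p β B := by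
  induction k with
  | zero =>
    intro A hA hk
    refine ⟨A, le_rfl, by simp, hA, fun B' _ _ g hg => mem_centralizer_of_hull_le hρ hg ?_⟩
    have : (hull ρ A).toSubmodule = ⊥ := Submodule.finrank_eq_zero.1 (Nat.le_zero.1 hk)
    intro x hx
    have h0 : x = 0 := (Submodule.mem_bot K).1 (this ▸ hx)
    exact h0 ▸ zero_mem _
  | succ k ih =>
    intro A hA hk
    by_cases h : IsStableAb p β A
    · refine ⟨A, le_rfl, ?_, h⟩
      rw [Subgroup.relIndex_self]
      exact Nat.one_le_pow _ _ hβ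
    · simp only [IsStableAb, hA, true_and, not_forall] at h
      obtain ⟨B', hB', hi, hne⟩ := h
      have hlt : (hull ρ B').toSubmodule < (hull ρ A).toSubmodule := by
        refine lt_of_le_of_ne (Algebra.adjoin_mono (Set.image_mono hB')) fun he => hne fun g hg => ?_
        exact mem_centralizer_of_hull_le hρ hg (Subalgebra.toSubmodule_injective he).ge
      obtain ⟨B, hBB', hi', hB⟩ := ih B' (hA.mono hB') (by
        have := Submodule.finrank_lt_finrank_of_lt hlt
        have h1 : Module.finrank K (hull ρ B').toSubmodule = Module.finrank K (hull ρ B') := rfl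
        have h2 : Module.finrank K (hull ρ A).toSubmodule = Module.finrank K (hull ρ A) := rfl
        omega)
      refine ⟨B, hBB'.trans hB', ?_, hB⟩
      rw [← Subgroup.relIndex_mul_relIndex B B' A hBB' hB', pow_succ]
      exact Nat.mul_le_mul hi' hi

/-- Centralisers of elements which are not scalar have large abelian subgroups. -/
def CentBound (ρ : G →* Module.End K V) (β : ℕ) : Prop :=
  ∀ g : G, g ∉ scalars ρ → HasAbelian β (Subgroup.centralizer ({g} : Set G))

theorem exists_stable_in [FiniteDimensional K V] [hp : Fact p.Prime] (hρ : Function.Injective ρ)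
    (hβ : 1 ≤ β) {m d : ℕ} (hm : (Nat.card G).factorization p ≤ m)
    (hd : Module.finrank K (Module.End K V) ≤ d) (hc : CentBound ρ β) {s : G} (hs : s ∉ scalars ρ)
    {H : Subgroup G} (hH : H ≤ Subgroup.centralizer ({s} : Set G)) :
    ∃ B ≤ H, B.relIndex H ≤ β ^ d * (p ^ m * β) ∧ IsStableAb p β B := by
  obtain ⟨L₀, hL₀, hi⟩ := hc s hs
  set L : Subgroup G := L₀.map (Subgroup.subtype _) ⊓ H
  have hLi : L.relIndex H ≤ β := by
    refine (relIndex_inf_le_of_le hH).trans (le_trans (le_of_eq ?_) hi)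
    rw [Subgroup.relIndex, Subgroup.subgroupOf,
      Subgroup.comap_map_eq_self_of_injective (Subgroup.subtype_injective _)]
  have hLab : ∀ x ∈ L, ∀ y ∈ L, x * y = y * x := by
    rintro _ ⟨⟨x, hx, rfl⟩, -⟩ _ ⟨⟨y, hy, rfl⟩, -⟩
    simp only [← map_mul, hL₀ x hx y hy]
  let L' : Subgroup G :=
    { carrier := {x | x ∈ L ∧ ¬ p ∣ orderOf x}
      one_mem' := ⟨one_mem L, by simpa using hp.out.ne_one⟩
      mul_mem' := fun {a b} ha hb => ⟨mul_mem ha.1 hb.1, fun hd' => by
        rcases hp.out.dvd_mul.1 (hd'.trans ((Commute.orderOf_mul_dvd_mul_orderOf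
          (show Commute a b from hLab a ha.1 b hb.1)))) with h | h
        exacts [ha.2 h, hb.2 h]⟩
      inv_mem' := fun {a} ha => ⟨inv_mem ha.1, by rw [orderOf_inv]; exact ha.2⟩ }
  have hL' : L' ≤ L := fun x hx => hx.1
  have hL'i : L'.relIndex L ≤ p ^ m := by
    haveI : (L'.subgroupOf L).Normal := ⟨fun a ha g => by
      have : g * a * g⁻¹ = a := by
        rw [mul_inv_eq_iff_eq_mul]
        exact Subtype.ext (hLab g g.2 a a.2)
      rwa [this]⟩
    refine index_le_prime_pow (factorization_subgroup_le hm L) _ fun x => ?_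
    refine Subgroup.mem_subgroupOf.2 ⟨(x ^ p ^ m).2, ?_⟩
    intro hd'
    rw [Subgroup.coe_pow, orderOf_pow] at hd'
    have hp1 : (p * (orderOf (x : G)).gcd (p ^ m)) ∣ orderOf (x : G) := by
      rw [mul_comm]
      exact Nat.mul_dvd_of_dvd_div (Nat.gcd_dvd_left _ _) hd'
    obtain ⟨v, hv, hg⟩ := (Nat.dvd_prime_pow hp.out).1 (Nat.gcd_dvd_right (orderOf (x : G)) (p ^ m))
    rw [hg, ← pow_succ'] at hp1
    have hle : v + 1 ≤ m := ((hp.out.pow_dvd_iff_le_factorization Nat.card_pos.ne').1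
      (hp1.trans (orderOf_dvd_natCard _))).trans hm
    have := Nat.le_of_dvd (pow_pos hp.out.pos v) (hg ▸ Nat.dvd_gcd hp1 (Nat.pow_dvd_pow p hle))
    exact absurd ((Nat.pow_le_pow_iff_right hp.out.one_lt).1 this) (by omega)
  obtain ⟨B, hB, hBi, hBs⟩ := exists_stable (p := p) hρ hβ d L'
    ⟨fun x hx y hy => hLab x hx.1 y hy.1, fun x hx => hx.2⟩
    ((Submodule.finrank_le (hull ρ L').toSubmodule).trans hd)
  refine ⟨B, hB.trans (hL'.trans inf_le_right), ?_, hBs⟩
  rw [← Subgroup.relIndex_mul_relIndex B L' H hB (hL'.trans inf_le_right),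
    ← Subgroup.relIndex_mul_relIndex L' L H hL' inf_le_right]
  exact Nat.mul_le_mul hBi (Nat.mul_le_mul hL'i hLi)

theorem stable_commute (hc : CentBound ρ β) {g : G} (hg : g ∉ scalars ρ) {B B' : Subgroup G}
    (hB : IsStableAb p β B) (hB' : IsStableAb p β B')
    (hBg : B ≤ Subgroup.centralizer ({g} : Set G)) (hB'g : B' ≤ Subgroup.centralizer ({g} : Set G)) :
    B ≤ Subgroup.centralizer (B' : Set G) := by
  obtain ⟨L₀, hL₀, hi⟩ := hc g hg
  set L : Subgroup G := L₀.map (Subgroup.subtype _)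
  have hLi : L.relIndex (Subgroup.centralizer ({g} : Set G)) ≤ β := by
    refine le_trans (le_of_eq ?_) hi
    rw [Subgroup.relIndex, Subgroup.subgroupOf,
      Subgroup.comap_map_eq_self_of_injective (Subgroup.subtype_injective _)]
  have h1 : L ⊓ B' ≤ Subgroup.centralizer (B : Set G) := by
    refine le_trans ?_ (hB.2 (L ⊓ B) inf_le_right ((relIndex_inf_le_of_le hBg).trans hLi))
    rintro x ⟨⟨x', hx', rfl⟩, -⟩
    refine Subgroup.mem_centralizer_iff.2 ?_
    rintro y ⟨⟨y', hy', rfl⟩, -⟩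
    simp only [← map_mul, hL₀ y' hy' x' hx']
  exact (Subgroup.le_centralizer_iff.1 h1).trans
    (hB'.2 (L ⊓ B') inf_le_right ((relIndex_inf_le_of_le hB'g).trans hLi))

theorem le_centralizer_trans (hc : CentBound ρ β) {B B' B'' : Subgroup G} (hB : IsStableAb p β B)
    (hB' : ¬ B' ≤ scalars ρ) (hB'' : IsStableAb p β B'') (h : B ≤ Subgroup.centralizer (B' : Set G))
    (h' : B'' ≤ Subgroup.centralizer (B' : Set G)) : B ≤ Subgroup.centralizer (B'' : Set G) := by
  obtain ⟨s, hs, hsZ⟩ := SetLike.not_le_iff_exists.1 hB'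
  have hle : Subgroup.centralizer (B' : Set G) ≤ Subgroup.centralizer ({s} : Set G) :=
    Subgroup.centralizer_le (Set.singleton_subset_iff.2 hs)
  exact stable_commute hc hsZ hB hB'' (h.trans hle) (h'.trans hle)

/-- A big subgroup containing all big subgroups commuting with it. -/
def IsTop (ρ : G →* Module.End K V) (p β : ℕ) (T : Subgroup G) : Prop :=
  IsBig ρ p β T ∧ ∀ B, IsBig ρ p β B → B ≤ Subgroup.centralizer (T : Set G) → B ≤ T

theorem exists_top [hp : Fact p.Prime] (hc : CentBound ρ β) {B : Subgroup G} (hB : IsBig ρ p β B) :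
    ∃ T, IsTop ρ p β T ∧ B ≤ T := by
  set U : Set G := ⋃ B' ∈ {B' : Subgroup G | IsBig ρ p β B' ∧ B' ≤ Subgroup.centralizer (B : Set G)},
    (B' : Set G) with hU
  set T := Subgroup.closure U with hT
  have hself : B ≤ Subgroup.centralizer (B : Set G) := fun x hx =>
    Subgroup.mem_centralizer_iff.2 fun y hy => hB.1.1.1 y hy x hx
  have hmem : ∀ B', IsBig ρ p β B' → B' ≤ Subgroup.centralizer (B : Set G) → B' ≤ T :=
    fun B' h1 h2 x hx => Subgroup.subset_closure (Set.mem_biUnion ⟨h1, h2⟩ hx)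
  have hBT : B ≤ T := hmem B hB hself
  have hUc : ∀ x ∈ U, ∀ y ∈ U, x * y = y * x := by
    intro x hx y hy
    simp only [hU, Set.mem_iUnion, Set.mem_ofPred_eq, exists_prop] at hx hy
    obtain ⟨B₁, ⟨h1, h1'⟩, hx⟩ := hx
    obtain ⟨B₂, ⟨h2, h2'⟩, hy⟩ := hy
    exact (Subgroup.mem_centralizer_iff.1
      (le_centralizer_trans hc h1.1 hB.2 h2.1 h1' h2' hx) y hy).symm
  have hTc : T ≤ Subgroup.centralizer (T : Set G) := by
    refine (Subgroup.closure_le _).2 fun x hx => ?_
    refine Subgroup.mem_centralizer_iff.2 fun y hy => ?_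
    have : T ≤ Subgroup.centralizer ({x} : Set G) :=
      (Subgroup.closure_le _).2 fun z hz => Subgroup.mem_centralizer_iff.2 fun w hw => by
        rw [Set.mem_singleton_iff.1 hw]
        exact hUc x hx z hz
    exact (Subgroup.mem_centralizer_iff.1 (this hy) x rfl).symm
  have hab : ∀ x ∈ T, ∀ y ∈ T, x * y = y * x := fun x hx y hy =>
    Subgroup.mem_centralizer_iff.1 (hTc hy) x hx
  have hTp : ∀ x ∈ T, ¬ p ∣ orderOf x := by
    intro x hx
    induction hx using Subgroup.closure_induction with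
    | mem x hx =>
      simp only [hU, Set.mem_iUnion, Set.mem_ofPred_eq, exists_prop] at hx
      obtain ⟨B', ⟨h, -⟩, hx⟩ := hx
      exact h.1.1.2 x hx
    | one => simpa using hp.out.ne_one
    | mul a b ha hb iha ihb =>
      intro hd
      rcases hp.out.dvd_mul.1 (hd.trans (Commute.orderOf_mul_dvd_mul_orderOf
        (show Commute a b from hab a ha b hb))) with h | h
      exacts [iha h, ihb h]
    | inv a _ ih => rwa [orderOf_inv]
  have hst : IsStableAb p β T := by
    refine ⟨⟨hab, hTp⟩, fun T' hT' hi g hg => ?_⟩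
    have hle : T ≤ Subgroup.centralizer ({g} : Set G) := by
      refine (Subgroup.closure_le _).2 fun x hx => ?_
      simp only [hU, Set.mem_iUnion, Set.mem_ofPred_eq, exists_prop] at hx
      obtain ⟨B', ⟨h1, h2⟩, hx⟩ := hx
      have hB'T := hmem B' h1 h2
      have hgB : g ∈ Subgroup.centralizer (B' : Set G) :=
        h1.1.2 (T' ⊓ B') inf_le_right ((relIndex_inf_le_of_le hB'T).trans hi)
          (Subgroup.centralizer_le (fun y hy => hy.1) hg)
      refine Subgroup.mem_centralizer_iff.2 fun w hw => ?_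
      rw [Set.mem_singleton_iff.1 hw]
      exact (Subgroup.mem_centralizer_iff.1 hgB x hx).symm
    exact Subgroup.mem_centralizer_iff.2 fun y hy =>
      (Subgroup.mem_centralizer_iff.1 (hle hy) g rfl).symm
  refine ⟨T, ⟨⟨hst, fun h => hB.2 (hBT.trans h)⟩, fun B' hB' hB'T => hmem B' hB' ?_⟩, hBT⟩
  exact hB'T.trans (Subgroup.centralizer_le hBT)

theorem top_eq (hc : CentBound ρ β) {T T' B B' : Subgroup G} (hT : IsTop ρ p β T)
    (hT' : IsTop ρ p β T') (hB : IsBig ρ p β B) (hB' : IsBig ρ p β B') (hBT : B ≤ T) (hBT' : B' ≤ T')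
    (h : B ≤ Subgroup.centralizer (B' : Set G)) : T = T' := by
  have hself : ∀ {S : Subgroup G}, IsTop ρ p β S → S ≤ Subgroup.centralizer (S : Set G) :=
    fun hS x hx => Subgroup.mem_centralizer_iff.2 fun y hy => hS.1.1.1.1 y hy x hx
  have e1 : T ≤ Subgroup.centralizer (B' : Set G) :=
    le_centralizer_trans hc hT.1.1 hB.2 hB'.1 ((hself hT).trans (Subgroup.centralizer_le hBT))
      (Subgroup.le_centralizer_iff.1 h)
  have e2 : T' ≤ Subgroup.centralizer (B' : Set G) := (hself hT').trans (Subgroup.centralizer_le hBT')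
  have e : T ≤ Subgroup.centralizer (T' : Set G) := le_centralizer_trans hc hT.1.1 hB'.2 hT'.1.1 e1 e2
  exact le_antisymm (hT'.2 T hT.1 e) (hT.2 T' hT'.1 (Subgroup.le_centralizer_iff.1 e))

theorem scalars_le_top [Fact p.Prime] [CharP K p] (hρ : Function.Injective ρ) (hc : CentBound ρ β)
    {T : Subgroup G} (hT : IsTop ρ p β T) : scalars ρ ≤ T := by
  have hab := hT.1.1.1.1
  have hcz : ∀ z ∈ scalars ρ, ∀ g : G, z * g = g * z := fun z hz g => commute_of_mem_scalars hρ hz g
  haveI := scalars_normal hρ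
  have hmem : ∀ x, x ∈ T ⊔ scalars ρ → ∃ t ∈ T, ∃ z ∈ scalars ρ, x = t * z := fun x hx => by
    obtain ⟨t, ht, z, hz, rfl⟩ := Subgroup.mem_sup_of_normal_right.1 hx
    exact ⟨t, ht, z, hz, rfl⟩
  have hcT : ∀ g, g ∈ Subgroup.centralizer (T : Set G) → g ∈ Subgroup.centralizer ((T ⊔ scalars ρ : Subgroup G) : Set G) := by
    intro g hg
    refine Subgroup.mem_centralizer_iff.2 fun x hx => ?_
    obtain ⟨t, ht, z, hz, rfl⟩ := hmem x hx
    rw [mul_assoc, hcz z hz g, ← mul_assoc, Subgroup.mem_centralizer_iff.1 hg t ht, mul_assoc]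
  have hst : IsStableAb p β (T ⊔ scalars ρ) := by
    refine ⟨⟨fun x hx y hy => ?_, fun x hx hd => ?_⟩, fun B' hB' hi g hg => hcT g ?_⟩
    · obtain ⟨t, ht, z, hz, rfl⟩ := hmem y hy
      refine Subgroup.mem_centralizer_iff.1 (hcT (t * z) ?_) x hx
      refine Subgroup.mem_centralizer_iff.2 fun s hs => ?_
      rw [← mul_assoc, hab s hs t ht, mul_assoc, mul_assoc, hcz z hz s]
    · obtain ⟨t, ht, z, hz, rfl⟩ := hmem x hx
      rcases (Fact.out : p.Prime).dvd_mul.1 (hd.trans (Commute.orderOf_mul_dvd_mul_orderOf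
        (show Commute t z from (hcz z hz t).symm))) with h | h
      exacts [hT.1.1.1.2 t ht h, (isPrimeAb_scalars hρ).2 z hz h]
    · exact hT.1.1.2 (B' ⊓ T) inf_le_right ((relIndex_inf_le_of_le le_sup_left).trans hi)
        (Subgroup.centralizer_le (fun y hy => hy.1) hg)
  refine le_trans le_sup_right (hT.2 _ ⟨hst, fun h => hT.1.2 (le_sup_left.trans h)⟩ ?_)
  intro x hx
  obtain ⟨t, ht, z, hz, rfl⟩ := hmem x hx
  refine Subgroup.mem_centralizer_iff.2 fun s hs => ?_
  rw [← mul_assoc, hab s hs t ht, mul_assoc, mul_assoc, hcz z hz s]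

theorem stable_map_conj (hρ : Function.Injective ρ) {B : Subgroup G} (hB : IsStableAb p β B) (g : G) :
    IsStableAb p β (B.map (MulAut.conj g).toMonoidHom) := by
  have := hρ
  have hcent : ∀ (g : G) (B : Subgroup G),
      (Subgroup.centralizer (B : Set G)).map (MulAut.conj g).toMonoidHom =
        Subgroup.centralizer ((B.map (MulAut.conj g).toMonoidHom : Subgroup G) : Set G) := by
    intro g B
    ext x
    rw [Subgroup.mem_map_equiv, Subgroup.mem_centralizer_iff, Subgroup.mem_centralizer_iff]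
    simp only [Subgroup.coe_map, Set.forall_mem_image, MulEquiv.coe_toMonoidHom, MulAut.conj_apply,
      MulAut.conj_symm_apply, SetLike.mem_coe]
    refine forall₂_congr fun y _ => ?_
    constructor <;> intro h
    · calc g * y * g⁻¹ * x = g * (y * (g⁻¹ * x * g)) * g⁻¹ := by group
        _ = g * ((g⁻¹ * x * g) * y) * g⁻¹ := by rw [h]
        _ = x * (g * y * g⁻¹) := by group
    · calc y * (g⁻¹ * x * g) = g⁻¹ * ((g * y * g⁻¹) * x) * g := by group
        _ = g⁻¹ * (x * (g * y * g⁻¹)) * g := by rw [h]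
        _ = g⁻¹ * x * g * y := by group
  have hback : ∀ (g : G) (B : Subgroup G),
      (B.map (MulAut.conj g⁻¹).toMonoidHom).map (MulAut.conj g).toMonoidHom = B := by
    intro g B
    rw [Subgroup.map_map]
    convert Subgroup.map_id B
    ext x
    simp [mul_assoc]
  refine ⟨⟨?_, ?_⟩, fun B' hB' hi => ?_⟩
  · rintro _ ⟨x, hx, rfl⟩ _ ⟨y, hy, rfl⟩
    simp only [← map_mul, hB.1.1 x hx y hy]
  · rintro _ ⟨x, hx, rfl⟩
    simp only [MulEquiv.coe_toMonoidHom]
    rw [MulEquiv.orderOf_eq]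
    exact hB.1.2 x hx
  · rw [← hcent, ← hback g B', ← hcent]
    refine Subgroup.map_mono (hB.2 _ ?_ ?_)
    · rintro _ ⟨y, hy, rfl⟩
      obtain ⟨b, hb, rfl⟩ := hB' hy
      simpa [mul_assoc] using hb
    · refine le_trans (le_of_eq ?_) hi
      conv_rhs => rw [← hback g B']
      exact (Subgroup.relIndex_map_map_of_injective _ _ (MulAut.conj g).injective).symm

theorem isTop_map_conj (hρ : Function.Injective ρ) {T : Subgroup G} (hT : IsTop ρ p β T) (g : G) :
    IsTop ρ p β (T.map (MulAut.conj g).toMonoidHom) := by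
  have hcent : ∀ (g : G) (B : Subgroup G),
      (Subgroup.centralizer (B : Set G)).map (MulAut.conj g).toMonoidHom =
        Subgroup.centralizer ((B.map (MulAut.conj g).toMonoidHom : Subgroup G) : Set G) := by
    intro g B
    ext x
    rw [Subgroup.mem_map_equiv, Subgroup.mem_centralizer_iff, Subgroup.mem_centralizer_iff]
    simp only [Subgroup.coe_map, Set.forall_mem_image, MulEquiv.coe_toMonoidHom, MulAut.conj_apply,
      MulAut.conj_symm_apply, SetLike.mem_coe]
    refine forall₂_congr fun y _ => ?_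
    constructor <;> intro h
    · calc g * y * g⁻¹ * x = g * (y * (g⁻¹ * x * g)) * g⁻¹ := by group
        _ = g * ((g⁻¹ * x * g) * y) * g⁻¹ := by rw [h]
        _ = x * (g * y * g⁻¹) := by group
    · calc y * (g⁻¹ * x * g) = g⁻¹ * ((g * y * g⁻¹) * x) * g := by group
        _ = g⁻¹ * (x * (g * y * g⁻¹)) * g := by rw [h]
        _ = g⁻¹ * x * g * y := by group
  have hback : ∀ (g : G) (B : Subgroup G),
      (B.map (MulAut.conj g⁻¹).toMonoidHom).map (MulAut.conj g).toMonoidHom = B := by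
    intro g B
    rw [Subgroup.map_map]
    convert Subgroup.map_id B
    ext x
    simp [mul_assoc]
  have hst : ∀ (g : G) {B : Subgroup G}, IsStableAb p β B →
      IsStableAb p β (B.map (MulAut.conj g).toMonoidHom) := fun g B hB => stable_map_conj hρ hB g
  have hbig : ∀ (g : G) {B : Subgroup G}, IsBig ρ p β B →
      IsBig ρ p β (B.map (MulAut.conj g).toMonoidHom) := by
    refine fun g B hB => ⟨hst g hB.1, fun h => hB.2 fun x hx => ?_⟩
    have := h ⟨x, hx, rfl⟩
    simpa [mul_assoc] using (scalars_normal hρ).conj_mem _ this g⁻¹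
  refine ⟨hbig g hT.1, fun B hB hBc => ?_⟩
  rw [← hcent, ← hback g B] at hBc
  rw [← hback g B]
  exact Subgroup.map_mono (hT.2 _ (hbig g⁻¹ hB)
    ((Subgroup.map_le_map_iff_of_injective (MulAut.conj g).injective).1 hBc))

theorem relIndex_centralizer_normalizer_le [FiniteDimensional K V] [IsAlgClosed K] [hp : Fact p.Prime]
    [CharP K p] (hρ : Function.Injective ρ) {d : ℕ} (hd : Module.finrank K (Module.End K V) ≤ d)
    {T : Subgroup G} (hT : IsPrimeAb p T) :
    (Subgroup.centralizer (T : Set G)).relIndex (Subgroup.normalizer (T : Set G)) ≤ (d + 1) ^ (d + 1) := by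
  classical
  set E := hull ρ T with hE
  letI : CommRing E := Algebra.adjoinCommRingOfComm K (by
    rintro _ ⟨a, ha, rfl⟩ _ ⟨b, hb, rfl⟩
    rw [← map_mul, ← map_mul, hT.1 a ha b hb])
  haveI : FiniteDimensional K E := inferInstanceAs (FiniteDimensional K E.toSubmodule)
  haveI : IsArtinianRing E := IsArtinianRing.of_finite K E
  have hΛcard : ∀ (S : Finset (E →ₐ[K] K)), S.card ≤ d := by
    intro S
    have hli := (linearIndependent_toLinearMap K E K).comp (fun φ : S => (φ : E →ₐ[K] K))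
      Subtype.val_injective
    have := hli.fintype_card_le_finrank
    rw [Fintype.card_coe, Module.finrank_linearMap_self] at this
    exact this.trans ((Submodule.finrank_le E.toSubmodule).trans hd)
  haveI : Finite (E →ₐ[K] K) := by
    by_contra hinf
    rw [not_finite_iff_infinite] at hinf
    obtain ⟨S, hS⟩ := Infinite.exists_subset_card_eq (E →ₐ[K] K) (d + 1)
    have := hΛcard S
    omega
  have hΛ : Nat.card (E →ₐ[K] K) ≤ d := by
    haveI := Fintype.ofFinite (E →ₐ[K] K)
    rw [Nat.card_eq_fintype_card]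
    exact hΛcard _
  -- the characters separate the elements of `T`
  have hsep : ∀ t ∈ T, ∀ t' ∈ T, (∀ φ : E →ₐ[K] K, ∀ (h : ρ t ∈ E) (h' : ρ t' ∈ E),
      φ ⟨ρ t, h⟩ = φ ⟨ρ t', h'⟩) → t = t' := by
    intro t ht t' ht' h
    have hu : t'⁻¹ * t ∈ T := T.mul_mem (T.inv_mem ht') ht
    set u : E := ⟨ρ (t'⁻¹ * t), mem_hull hu⟩
    have hnil : IsNilpotent (u - 1) := by
      refine nilpotent_iff_mem_prime.2 fun P hP => ?_
      haveI := hP
      haveI : P.IsMaximal := IsArtinianRing.isMaximal_of_isPrime P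
      letI := Ideal.Quotient.field P
      haveI : Algebra.IsIntegral K (E ⧸ P) := Algebra.IsIntegral.of_finite K (E ⧸ P)
      let e := AlgEquiv.ofBijective (Algebra.ofId K (E ⧸ P))
        IsAlgClosed.algebraMap_bijective_of_isIntegral
      let φ : E →ₐ[K] K := e.symm.toAlgHom.comp (Ideal.Quotient.mkₐ K P)
      have hφ := h φ (mem_hull ht) (mem_hull ht')
      rw [← Ideal.Quotient.eq_zero_iff_mem]
      have hinj := e.symm.injective
      refine hinj ?_
      rw [map_zero]
      show φ (u - 1) = 0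
      have hmul : (⟨ρ t', mem_hull ht'⟩ : E) * u = ⟨ρ t, mem_hull ht⟩ := by
        refine Subtype.ext ?_
        show ρ t' * ρ (t'⁻¹ * t) = ρ t
        rw [← map_mul, mul_inv_cancel_left]
      have hne : φ (⟨ρ t', mem_hull ht'⟩ : E) ≠ 0 := by
        intro h0
        have h1 : (⟨ρ t', mem_hull ht'⟩ : E) * ⟨ρ t'⁻¹, mem_hull (T.inv_mem ht')⟩ = 1 := by
          refine Subtype.ext ?_
          show ρ t' * ρ t'⁻¹ = 1
          rw [← map_mul, mul_inv_cancel, map_one]
        have h2 := congrArg φ h1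
        rw [map_mul, map_one, h0, zero_mul] at h2
        exact zero_ne_one h2
      have h3 := congrArg φ hmul
      rw [map_mul, hφ] at h3
      rw [map_sub, map_one, sub_eq_zero]
      exact mul_left_cancel₀ hne (h3.trans (mul_one _).symm)
    obtain ⟨k, hk⟩ := hnil
    have hk' : (ρ (t'⁻¹ * t) - 1) ^ k = 0 := congrArg Subtype.val hk
    rcases subsingleton_or_nontrivial V with hV | hV
    · exact hρ (Subsingleton.elim _ _)
    haveI : CharP (Module.End K V) p :=
      charP_of_injective_algebraMap (algebraMap K (Module.End K V)).injective p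
    have h1 : (ρ (t'⁻¹ * t)) ^ p ^ k = 1 := by
      have h2 : (ρ (t'⁻¹ * t) - 1) ^ p ^ k = 0 :=
        pow_eq_zero_of_le (Nat.lt_pow_self hp.out.one_lt).le hk'
      rw [sub_pow_char_pow_of_commute p k (Commute.one_right _), one_pow, sub_eq_zero] at h2
      exact h2
    rw [← map_pow, ← map_one ρ] at h1
    obtain ⟨i, -, hi⟩ := (Nat.dvd_prime_pow hp.out).1 (orderOf_dvd_of_pow_eq_one (hρ h1))
    rcases Nat.eq_zero_or_pos i with rfl | hi0
    · exact (inv_mul_eq_one.1 (orderOf_eq_one_iff.1 (by simpa using hi))).symm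
    · exact absurd (hi ▸ dvd_pow_self p hi0.ne') (hT.2 _ hu)
  -- conjugation on the characters
  set N := Subgroup.normalizer (T : Set G) with hN
  have hconjE : ∀ g ∈ N, ∀ e ∈ E, ρ g * e * ρ g⁻¹ ∈ E := by
    intro g hg e he
    induction he using Algebra.adjoin_induction with
    | mem x hx =>
      obtain ⟨t, ht, rfl⟩ := hx
      rw [← map_mul, ← map_mul]
      exact mem_hull ((Subgroup.mem_normalizer_iff.1 hg t).1 ht)
    | algebraMap r =>
      rw [← Algebra.commutes r (ρ g), mul_assoc, ← map_mul, mul_inv_cancel, map_one, mul_one]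
      exact Subalgebra.algebraMap_mem E r
    | add x y _ _ hx hy => rw [mul_add, add_mul]; exact add_mem hx hy
    | mul x y _ _ hx hy =>
      have hi : ρ g⁻¹ * ρ g = 1 := by rw [← map_mul, inv_mul_cancel, map_one]
      have : ρ g * (x * y) * ρ g⁻¹ = (ρ g * x * ρ g⁻¹) * (ρ g * y * ρ g⁻¹) := by
        calc ρ g * (x * y) * ρ g⁻¹ = ρ g * x * (ρ g⁻¹ * ρ g) * y * ρ g⁻¹ := by rw [hi]; noncomm_ring
          _ = _ := by noncomm_ring
      rw [this]
      exact mul_mem hx hy
  let cj : (g : N) → E →ₐ[K] E := fun g => AlgHom.ofLinearMap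
    { toFun := fun e => ⟨ρ g * e * ρ (g : G)⁻¹, hconjE g g.2 e e.2⟩
      map_add' := fun a b => Subtype.ext (by simp [mul_add, add_mul])
      map_smul' := fun c a => Subtype.ext (by simp [mul_smul_comm, smul_mul_assoc]) }
    (Subtype.ext (by simp [← map_mul]))
    (fun a b => Subtype.ext (by
      have hi : ρ (g : G)⁻¹ * ρ g = 1 := by rw [← map_mul, inv_mul_cancel, map_one]
      show ρ g * ((a : Module.End K V) * b) * ρ (g : G)⁻¹ =
        (ρ g * a * ρ (g : G)⁻¹) * (ρ g * b * ρ (g : G)⁻¹)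
      calc ρ g * ((a : Module.End K V) * b) * ρ (g : G)⁻¹
          = ρ g * a * (ρ (g : G)⁻¹ * ρ g) * b * ρ (g : G)⁻¹ := by rw [hi]; noncomm_ring
        _ = _ := by noncomm_ring))
  let Φ : ↥N ⧸ (Subgroup.centralizer (T : Set G)).subgroupOf N → ((E →ₐ[K] K) → (E →ₐ[K] K)) :=
    fun q φ => φ.comp (cj q.out)
  have hΦ : Function.Injective Φ := by
    intro q q' h
    rw [← Quotient.out_eq q, ← Quotient.out_eq q']
    refine QuotientGroup.eq.2 (Subgroup.mem_subgroupOf.2 (Subgroup.mem_centralizer_iff.2 fun t ht => ?_))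
    set g := q.out
    set g' := q'.out
    have key : (g : G) * t * (g : G)⁻¹ = (g' : G) * t * (g' : G)⁻¹ := by
      refine hsep _ ((Subgroup.mem_normalizer_iff.1 g.2 t).1 ht) _
        ((Subgroup.mem_normalizer_iff.1 g'.2 t).1 ht) fun φ h1 h2 => ?_
      have h3 := AlgHom.congr_fun (congrFun h φ) ⟨ρ t, mem_hull ht⟩
      have e1 : cj g ⟨ρ t, mem_hull ht⟩ = ⟨ρ ((g : G) * t * (g : G)⁻¹), h1⟩ :=
        Subtype.ext (show ρ g * ρ t * ρ (g : G)⁻¹ = ρ ((g : G) * t * (g : G)⁻¹) by rw [map_mul, map_mul])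
      have e2 : cj g' ⟨ρ t, mem_hull ht⟩ = ⟨ρ ((g' : G) * t * (g' : G)⁻¹), h2⟩ :=
        Subtype.ext (show ρ g' * ρ t * ρ (g' : G)⁻¹ = ρ ((g' : G) * t * (g' : G)⁻¹) by rw [map_mul, map_mul])
      simp only [Φ, AlgHom.comp_apply] at h3
      rw [e1, e2] at h3
      exact h3
    simp only [Subgroup.coe_mul, Subgroup.coe_inv]
    calc t * ((g : G)⁻¹ * (g' : G)) = (g : G)⁻¹ * ((g : G) * t * (g : G)⁻¹) * g' := by group
      _ = (g : G)⁻¹ * g' * t := by rw [key]; group
  calc (Subgroup.centralizer (T : Set G)).relIndex N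
      = Nat.card (↥N ⧸ (Subgroup.centralizer (T : Set G)).subgroupOf N) := rfl
    _ ≤ Nat.card ((E →ₐ[K] K) → (E →ₐ[K] K)) := Nat.card_le_card_of_injective Φ hΦ
    _ = Nat.card (E →ₐ[K] K) ^ Nat.card (E →ₐ[K] K) := Nat.card_fun
    _ ≤ (d + 1) ^ (d + 1) := (Nat.pow_le_pow_left (by omega) _).trans
        (Nat.pow_le_pow_right (by omega) (by omega))

end Cfsg.Agent.Lib.JordanModular55
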